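import Cfsg.Agent.Lib.HNRec.Cz.Frames
import Cfsg.Agent.Lib.HNRec.ModelData

/-!
The packed copy of the tables is the same model.
-/

set_option autoImplicit false
set_option maxRecDepth 100000

namespace CfsgLib.HNRec.Cz

theorem agrees_model : agrees Model.tabs = true := by decide +kernel

end CfsgLib.HNRec.Cz
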