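import Cfsg.Agent.Lib.HNRec.Cz.CentCheck
import Cfsg.Agent.Lib.HNRec.Fusion.Sylow
import Cfsg.Agent.Lib.HNIndex.Order

/-!
Upper bounds for two centralisers in the model of the centraliser of the first involution.
-/

set_option autoImplicit false
set_option maxRecDepth 100000

namespace CfsgLib.HNRec.Cz

open CfsgLib.HNxyz CfsgLib.HNIndex
open Cfsg.Spor (HN)

/-- The element of a word in the model. -/
noncomputable abbrev mV (w : List ℕ) : hM := mW hnCtx.a hnCtx.b hnCtx.c w

/-- The action of the model on the hundred points. -/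
noncomputable abbrev phV : hM →* Equiv.Perm (Fin 100) := ph hnCtx.a hnCtx.b hnCtx.c

theorem phV_word : ∀ {w : List ℕ}, (∀ g ∈ w, g < 6) → ∀ x : Fin 100,
    ((phV (mV w) x : Fin 100) : ℕ) = word100 w x.val
  | [], _, x => by
    have e : mV [] = 1 := evalW_nil _
    simp [e, word100]
  | g :: w, h, x => by
    have hg := h g List.mem_cons_self
    have e1 : phV (mV (g :: w)) = elt px py pz g * phV (mV w) := by
      rw [show mV (g :: w) = elt (mA hnCtx.a hnCtx.b hnCtx.c) (mB hnCtx.a hnCtx.b hnCtx.c)
        (mC hnCtx.a hnCtx.b hnCtx.c) g * mV w from evalW_cons _ g w, map_mul, elt_map]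
      rfl
    rw [e1, Equiv.Perm.mul_apply, elt_code hg, pmOf_apply (codeOf_ok hg),
      phV_word (fun a ha => h a (List.mem_cons_of_mem _ ha))]
    rfl

/-- The elements mapping a set of points onto itself. -/
noncomputable def fixerOf (S : List ℕ) : Subgroup hM where
  carrier := {m | ∀ x : Fin 100, x.val ∈ S ↔ (phV m x).val ∈ S}
  one_mem' := fun x => by simp
  mul_mem' := fun {m n} hm hn x => by
    rw [map_mul, Equiv.Perm.mul_apply, hn x, hm (phV n x)]
  inv_mem' := fun {m} hm x => by
    have h := hm ((phV m)⁻¹ x)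
    rw [← Equiv.Perm.mul_apply, mul_inv_cancel, Equiv.Perm.one_apply] at h
    rw [map_inv]
    exact h.symm

theorem testBit_maskOf : ∀ (l : List ℕ) (x : ℕ), (maskOf l).testBit x = true ↔ x ∈ l
  | [], x => by simp [maskOf]
  | y :: l, x => by
    have e : maskOf (y :: l) = maskOf l ||| 1 <<< y := rfl
    rw [e, Nat.testBit_or, Bool.or_eq_true, testBit_maskOf l x, List.mem_cons, Nat.shiftLeft_eq, one_mul,
      Nat.testBit_two_pow, decide_eq_true_eq]
    exact ⟨fun h => h.elim Or.inr (fun e => Or.inl e.symm), fun h => h.elim (fun e => Or.inr e.symm) Or.inl⟩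

/-- A checked orbit bounds the subgroup fixing the set. -/
theorem fixer_card {k n : ℕ} {N P O : List (List (List ℕ))}
    (hT : (List.range n).all (treeOk k N P) = true) (hS : (List.range n).all (sortOk k n N O) = true)
    (h0 : ∀ x ∈ ptsOf k (at3 N 0), x < 100) :
    n * Nat.card (fixerOf (ptsOf k (at3 N 0))) ≤ 177408000 := by
  haveI : Finite hM := m_finite hnCtx.rels
  set S := ptsOf k (at3 N 0) with hSd
  have reach : ∀ i, i < n → ∃ m : hM, ∀ j, j ∈ ptsOf k (at3 N i) ↔
      ∃ x : Fin 100, x.val ∈ S ∧ (phV m x).val = j := by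
    intro i
    induction i using Nat.strong_induction_on with
    | _ i ih =>
      intro hi
      by_cases hz : i = 0
      · subst hz
        refine ⟨1, fun j => ⟨fun hj => ⟨⟨j, h0 j hj⟩, hj, by simp⟩, ?_⟩⟩
        rintro ⟨x, hx, rfl⟩
        simpa using hx
      · have h := List.all_eq_true.1 hT i (List.mem_range.2 hi)
        simp only [treeOk, Bool.or_eq_true, Nat.beq_eq, Bool.and_eq_true, Nat.blt_eq, hz, false_or] at h
        obtain ⟨⟨hp, hg⟩, he⟩ := h
        obtain ⟨m, hm⟩ := ih _ hp (lt_trans hp hi)
        refine ⟨mV [at3 P i % 8] * m, fun j => ?_⟩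
        rw [Fusion.beqL_iff.1 he, List.mem_map]
        constructor
        · rintro ⟨y, hy, rfl⟩
          obtain ⟨x, hx, rfl⟩ := (hm y).1 hy
          refine ⟨x, hx, ?_⟩
          rw [map_mul, Equiv.Perm.mul_apply, phV_word (by simpa using hg)]
          rfl
        · rintro ⟨x, hx, rfl⟩
          refine ⟨(phV m x).val, (hm _).2 ⟨x, hx, rfl⟩, ?_⟩
          rw [map_mul, Equiv.Perm.mul_apply, phV_word (by simpa using hg)]
          rfl
  choose r hr using reach
  have hO : ∀ j : Fin n, at3 O j.val < n := fun j => by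
    have h := List.all_eq_true.1 hS j.val (List.mem_range.2 j.isLt)
    simp only [sortOk, Bool.and_eq_true, Nat.blt_eq] at h
    exact h.1
  let μ : Fin n → ℕ := fun j => maskOf (ptsOf k (at3 N (at3 O j.val)))
  have hmono : StrictMono μ := by
    cases n with
    | zero => exact fun a => a.elim0
    | succ n =>
      refine Fin.strictMono_iff_lt_succ.2 fun j => ?_
      have h := List.all_eq_true.1 hS j.val (List.mem_range.2 (by omega))
      simp only [sortOk, Bool.and_eq_true, Bool.or_eq_true, Nat.beq_eq, Nat.blt_eq] at h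
      exact h.2.resolve_left (by omega)
  let f : Fin n × fixerOf S → hM := fun p => r _ (hO p.1) * p.2.1
  have hf : Function.Injective f := by
    rintro ⟨i, a⟩ ⟨j, b⟩ e
    have e' : r _ (hO i) * a.1 = r _ (hO j) * b.1 := e
    have main : ∀ (i : Fin n) (a : fixerOf S) (z : ℕ), z ∈ ptsOf k (at3 N (at3 O i.val)) ↔
        ∃ x : Fin 100, x.val ∈ S ∧ (phV (r _ (hO i) * a.1) x).val = z := by
      intro i a z
      rw [hr _ (hO i) z]
      constructor
      · rintro ⟨x, hx, rfl⟩
        refine ⟨(phV a.1)⁻¹ x, ?_, ?_⟩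
        · have := a.2 ((phV a.1)⁻¹ x)
          rw [← Equiv.Perm.mul_apply, mul_inv_cancel, Equiv.Perm.one_apply] at this
          exact this.2 hx
        · rw [map_mul, Equiv.Perm.mul_apply, ← Equiv.Perm.mul_apply (phV a.1), mul_inv_cancel,
            Equiv.Perm.one_apply]
      · rintro ⟨x, hx, rfl⟩
        exact ⟨phV a.1 x, (a.2 x).1 hx, by rw [map_mul, Equiv.Perm.mul_apply]⟩
    have hμ : μ i = μ j := by
      refine Nat.eq_of_testBit_eq fun z => ?_
      rw [Bool.eq_iff_iff, testBit_maskOf, testBit_maskOf, main i a z, main j b z, e']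
    obtain rfl : i = j := hmono.injective hμ
    exact Prod.ext rfl (Subtype.ext (mul_left_cancel e'))
  have h := Nat.card_le_card_of_injective f hf
  rw [Nat.card_prod, Nat.card_fin] at h
  exact h.trans (m_card hnCtx.rels).le

theorem start_lt : (∀ x ∈ ptsOf 20 (at3 nodeOne 0), x < 100) ∧ (∀ x ∈ ptsOf 6 (at3 nodeTwo 0), x < 100) := by
  decide +kernel

theorem words_ok : (∀ g ∈ sWord, g < 6) ∧ (∀ g ∈ spWord, g < 6) ∧ (∀ u ∈ stabWords, ∀ g ∈ u, g < 6) := by
  have h := word_checks
  simp only [Bool.and_eq_true, List.all_eq_true, Fusion.okW_iff] at h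
  exact ⟨h.1.1.1, h.1.1.2, h.1.2⟩

theorem cent_le {k : ℕ} {N : List (List (List ℕ))} {w : List ℕ} (hw : ∀ g ∈ w, g < 6)
    (hfix : fixOk k N w = true) :
    Subgroup.centralizer ({mV w} : Set hM) ≤ fixerOf (ptsOf k (at3 N 0)) := by
  intro m hm x
  have key : ∀ y : Fin 100, y.val ∈ ptsOf k (at3 N 0) ↔ phV (mV w) y = y := by
    intro y
    have h := List.all_eq_true.1 hfix y.val (List.mem_range.2 y.isLt)
    rw [beq_iff_eq, Bool.eq_iff_iff, Nat.beq_eq, List.elem_iff] at h
    rw [← h, ← phV_word hw y]
    exact ⟨fun e => Fin.ext e, fun e => congrArg Fin.val e⟩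
  rw [key x, key (phV m x)]
  have hc := congrArg phV (Subgroup.mem_centralizer_singleton_iff.1 hm)
  rw [map_mul, map_mul] at hc
  have hcx := congrArg (fun σ : Equiv.Perm (Fin 100) => σ x) hc
  simp only [Equiv.Perm.mul_apply] at hcx
  exact ⟨fun e => by rw [← hcx, e], fun e => (phV m).injective (hcx.trans e)⟩

/-- The centraliser of the second involution in the model. -/
theorem cOne : Nat.card (Subgroup.centralizer ({mV sWord} : Set hM)) ≤ 30720 := by
  haveI : Finite hM := m_finite hnCtx.rels
  have h1 := fixer_card tree_one sort_one start_lt.1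
  have h2 : Nat.card (Subgroup.centralizer ({mV sWord} : Set hM)) ≤ Nat.card (fixerOf (ptsOf 20 (at3 nodeOne 0))) :=
    Nat.card_le_card_of_injective _ (Subgroup.inclusion_injective (cent_le words_ok.1 fix_one))
  omega

/-- The centraliser of the conjugate of the second involution in the model. -/
theorem cTwo : Nat.card (Subgroup.centralizer ({mV spWord} : Set hM)) ≤ 3840 := by
  haveI : Finite hM := m_finite hnCtx.rels
  set S := ptsOf 6 (at3 nodeTwo 0) with hS
  have h1 := fixer_card tree_two sort_two start_lt.2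
  have hlen : stabWords.length = 12 := rfl
  have hmem : ∀ i : Fin 12, stabWords.getD i.val [] ∈ stabWords := fun i => by
    rw [List.getD_eq_getElem _ _ (by rw [hlen]; exact i.isLt)]
    exact List.getElem_mem _
  have hH : ∀ u ∈ stabWords, mV u ∈ fixerOf S := by
    intro u hu
    have hc := word_checks
    simp only [Bool.and_eq_true, List.all_eq_true, List.elem_eq_mem, decide_eq_true_eq] at hc
    have hfw : ∀ x : Fin 100, x.val ∈ S → (phV (mV u) x).val ∈ S := fun x hx => by
      rw [phV_word (words_ok.2.2 u hu)]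
      exact hc.2 u hu x.val hx
    intro x
    refine ⟨hfw x, fun hx => ?_⟩
    classical
    let T : Finset (Fin 100) := Finset.univ.filter fun y => y.val ∈ S
    have himg : T.image (phV (mV u)) = T := by
      refine Finset.eq_of_subset_of_card_le (fun y hy => ?_) ?_
      · obtain ⟨z, hz, rfl⟩ := Finset.mem_image.1 hy
        simp only [T, Finset.mem_filter, Finset.mem_univ, true_and] at hz ⊢
        exact hfw z hz
      · rw [Finset.card_image_of_injective _ (phV (mV u)).injective]
    have : phV (mV u) x ∈ T.image (phV (mV u)) := by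
      rw [himg]; simpa [T] using hx
    obtain ⟨z, hz, hzx⟩ := Finset.mem_image.1 this
    obtain rfl := (phV (mV u)).injective hzx
    simpa [T] using hz
  have hC := cent_le words_ok.2.1 fix_two
  let f : Fin 12 × Subgroup.centralizer ({mV spWord} : Set hM) → fixerOf S := fun p =>
    ⟨mV (stabWords.getD p.1.val []) * p.2.1, mul_mem (hH _ (hmem p.1)) (hC p.2.2)⟩
  have hf : Function.Injective f := by
    rintro ⟨i, a⟩ ⟨j, b⟩ e
    have e' : mV (stabWords.getD i.val []) * a.1 = mV (stabWords.getD j.val []) * b.1 := congrArg Subtype.val e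
    have val : ∀ (i : Fin 12) (a : Subgroup.centralizer ({mV spWord} : Set hM)),
        mV (stabWords.getD i.val [] ++ spWord ++ HNIndex.invW (stabWords.getD i.val [])) =
          mV (stabWords.getD i.val []) * a.1 * mV spWord * (mV (stabWords.getD i.val []) * a.1)⁻¹ := by
      intro i a
      have hu := words_ok.2.2 _ (hmem i)
      rw [show ∀ p q r : List ℕ, mV (p ++ q ++ r) = mV p * mV q * mV r from fun p q r =>
        (Fusion.mW_append _ _).trans (congrArg (· * _) (Fusion.mW_append _ _)), show mV (HNIndex.invW (stabWords.getD i.val [])) =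
        (mV (stabWords.getD i.val []))⁻¹ from evalW_invW _ _ _ (invW_lt hu)]
      rw [mul_assoc (mV (stabWords.getD i.val [])) a.1, Subgroup.mem_centralizer_singleton_iff.1 a.2]
      group
    have hlt : ∀ i : Fin 12, ∀ g ∈ stabWords.getD i.val [] ++ spWord ++ HNIndex.invW (stabWords.getD i.val []), g < 6 := by
      intro i g hg
      simp only [List.mem_append] at hg
      rcases hg with (hg | hg) | hg
      exacts [words_ok.2.2 _ (hmem i) g hg, words_ok.2.1 g hg, invW_lt (words_ok.2.2 _ (hmem i)) g hg]
    have hk := Fusion.kW_of_mW (hlt i) (hlt j) ((val i a).trans ((congrArg (fun z => z * mV spWord * z⁻¹) e').trans (val j b).symm))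
    obtain rfl : i = j := by
      refine Fin.ext ?_
      by_contra hne
      rcases lt_or_gt_of_ne hne with hlt' | hlt'
      · have h := List.all_eq_true.1 (List.all_eq_true.1 conj_checks j.val (List.mem_range.2 j.isLt)) i.val
          (List.mem_range.2 hlt')
        rw [Fusion.beqL_iff.2 hk.symm] at h
        exact Bool.noConfusion h
      · have h := List.all_eq_true.1 (List.all_eq_true.1 conj_checks i.val (List.mem_range.2 i.isLt)) j.val
          (List.mem_range.2 hlt')
        rw [Fusion.beqL_iff.2 hk] at h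
        exact Bool.noConfusion h
    exact Prod.ext rfl (Subtype.ext (mul_left_cancel e'))
  have h := Nat.card_le_card_of_injective f hf
  rw [Nat.card_prod, Nat.card_fin] at h
  rw [← hS] at h1
  omega

end CfsgLib.HNRec.Cz
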