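import Cfsg.Agent.Lib.HNRec.Cz.CentData
import Cfsg.Agent.Lib.HNRec.Fusion.SylowDefs
import Cfsg.Agent.Lib.HNRec.Cz.Data
import Cfsg.Agent.Lib.HNxyz.Perms

/-!
The checks of the orbits of the two fixed point sets.
-/

set_option autoImplicit false
set_option maxRecDepth 100000
set_option Elab.async false

namespace CfsgLib.HNRec.Cz

open CfsgLib.HNxyz CfsgLib.Golay

/-- An entry of a table in three levels. -/
def at3 (T : List (List (List ℕ))) (i : ℕ) : ℕ := ((T.getD (i / 1024) []).getD (i % 1024 / 32) []).getD (i % 32) 0

/-- The points of a packed set. -/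
def ptsOf (k n : ℕ) : List ℕ := (List.range k).map fun j => (n >>> (7 * j)) % 128

/-- The mask of a set. -/
def maskOf (l : List ℕ) : ℕ := l.foldr (fun x m => m ||| 1 <<< x) 0

/-- The image of a point of the hundred under a letter. -/
def step100 (g x : ℕ) : ℕ := PackPerm.getP (codeOf g) x

/-- The image of a point of the hundred under a word. -/
def word100 (w : List ℕ) (x : ℕ) : ℕ := w.foldr step100 x

/-- The node comes from its parent. -/
def treeOk (k : ℕ) (N P : List (List (List ℕ))) (i : ℕ) : Bool :=
  Nat.beq i 0 || (Nat.blt (at3 P i / 8) i && Nat.blt (at3 P i % 8) 6 &&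
    Fusion.beqL (ptsOf k (at3 N i)) ((ptsOf k (at3 N (at3 P i / 8))).map (step100 (at3 P i % 8))))

/-- Consecutive masks increase. -/
def sortOk (k : ℕ) (n : ℕ) (N O : List (List (List ℕ))) (j : ℕ) : Bool :=
  Nat.blt (at3 O j) n && (Nat.beq (j + 1) n ||
    Nat.blt (maskOf (ptsOf k (at3 N (at3 O j)))) (maskOf (ptsOf k (at3 N (at3 O (j + 1))))))

/-- The set is the fixed point set of a word. -/
def fixOk (k : ℕ) (N : List (List (List ℕ))) (w : List ℕ) : Bool :=
  (List.range 100).all fun x => Nat.beq (word100 w x) x == (ptsOf k (at3 N 0)).elem x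

theorem fix_one : fixOk 20 nodeOne sWord = true := by decide +kernel

theorem fix_two : fixOk 6 nodeTwo spWord = true := by decide +kernel

theorem tree_one : (List.range 5775).all (treeOk 20 nodeOne parOne) = true := by decide +kernel

theorem sort_one : (List.range 5775).all (sortOk 20 5775 nodeOne ordOne) = true := by decide +kernel

theorem tree_two : (List.range 3850).all (treeOk 6 nodeTwo parTwo) = true := by decide +kernel

theorem sort_two : (List.range 3850).all (sortOk 6 3850 nodeTwo ordTwo) = true := by decide +kernel

theorem word_checks : (Fusion.okW sWord && Fusion.okW spWord && stabWords.all Fusion.okW &&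
    stabWords.all fun g => (ptsOf 6 (at3 nodeTwo 0)).all fun x =>
      (ptsOf 6 (at3 nodeTwo 0)).elem (word100 g x)) = true := by
  decide +kernel

theorem conj_checks : ((List.range 12).all fun i => (List.range i).all fun j =>
    !Fusion.beqL (Fusion.kW (stabWords.getD i [] ++ spWord ++ HNIndex.invW (stabWords.getD i [])))
      (Fusion.kW (stabWords.getD j [] ++ spWord ++ HNIndex.invW (stabWords.getD j [])))) = true := by
  decide +kernel

end CfsgLib.HNRec.Cz
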