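import Cfsg.Agent.Lib.HNRec.Cz.CheckDefs

/-!
The relators.
-/

set_option autoImplicit false
set_option maxRecDepth 100000
set_option Elab.async false

namespace CfsgLib.HNRec.Cz

open CfsgLib.CosetCert CfsgLib.HNxyz CfsgLib.HNxyz.ModEleven

theorem rel_ok0 : relOk 0 = true := by decide +kernel

theorem rel_ok1 : relOk 1 = true := by decide +kernel

theorem rel_ok2 : relOk 2 = true := by decide +kernel

theorem rel_ok3 : relOk 3 = true := by decide +kernel

theorem rel_ok4 : relOk 4 = true := by decide +kernel

theorem rel_ok5 : relOk 5 = true := by decide +kernel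

theorem rel_ok6 : relOk 6 = true := by decide +kernel

theorem rel_ok7 : relOk 7 = true := by decide +kernel

theorem rel_ok8 : relOk 8 = true := by decide +kernel

theorem rel_ok9 : relOk 9 = true := by decide +kernel

theorem rel_ok10 : relOk 10 = true := by decide +kernel

theorem rel_ok11 : relOk 11 = true := by decide +kernel

theorem rel_ok12 : relOk 12 = true := by decide +kernel

theorem rel_ok13 : relOk 13 = true := by decide +kernel

theorem rel_ok14 : relOk 14 = true := by decide +kernel

end CfsgLib.HNRec.Cz
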