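import Cfsg.Agent.Lib.HNRec.Cz.CheckDefs

/-!
The stabilising words.
-/

set_option autoImplicit false
set_option maxRecDepth 100000
set_option Elab.async false

namespace CfsgLib.HNRec.Cz

open CfsgLib.CosetCert CfsgLib.HNxyz CfsgLib.HNxyz.ModEleven

theorem subOne_ok0 : subOk subsOne eltOne 0 = true := by decide +kernel

theorem subOne_ok1 : subOk subsOne eltOne 1 = true := by decide +kernel

theorem subOne_ok2 : subOk subsOne eltOne 2 = true := by decide +kernel

theorem subOne_ok3 : subOk subsOne eltOne 3 = true := by decide +kernel

theorem subTwo_ok0 : subOk subsTwo eltTwo 0 = true := by decide +kernel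

theorem subTwo_ok1 : subOk subsTwo eltTwo 1 = true := by decide +kernel

theorem subTwo_ok2 : subOk subsTwo eltTwo 2 = true := by decide +kernel

theorem subTwo_ok3 : subOk subsTwo eltTwo 3 = true := by decide +kernel

theorem subTwo_ok4 : subOk subsTwo eltTwo 4 = true := by decide +kernel

theorem subTwo_ok5 : subOk subsTwo eltTwo 5 = true := by decide +kernel

theorem subTwo_ok6 : subOk subsTwo eltTwo 6 = true := by decide +kernel

theorem subTwo_ok7 : subOk subsTwo eltTwo 7 = true := by decide +kernel

theorem subTwo_ok8 : subOk subsTwo eltTwo 8 = true := by decide +kernel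

theorem subTwo_ok9 : subOk subsTwo eltTwo 9 = true := by decide +kernel

end CfsgLib.HNRec.Cz
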