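import Cfsg.Agent.Lib.HNRec.Cz.CheckA
import Cfsg.Agent.Lib.HNRec.Cz.CheckB
import Cfsg.Agent.Lib.HNRec.Cz.CheckC
import Mathlib.Tactic.IntervalCases

/-!
The checks together.
-/

set_option autoImplicit false
set_option maxRecDepth 100000
set_option Elab.async false

namespace CfsgLib.HNRec.Cz

open CfsgLib.CosetCert CfsgLib.HNxyz CfsgLib.HNxyz.ModEleven

theorem list_lengths : relT.length = 15 ∧ subsOne.length = 4 ∧ subsTwo.length = 10 := by decide +kernel

theorem letter_checks : ∀ g < 5, letterOk g = true := by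
  intro g hg
  interval_cases g
  exacts [letter_ok0, letter_ok1, letter_ok2, letter_ok3, letter_ok4]

theorem rel_checks : ∀ i < 15, relOk i = true := by
  intro i hi
  interval_cases i
  exacts [rel_ok0, rel_ok1, rel_ok2, rel_ok3, rel_ok4, rel_ok5, rel_ok6, rel_ok7, rel_ok8, rel_ok9, rel_ok10, rel_ok11, rel_ok12, rel_ok13, rel_ok14]

theorem subOne_checks : ∀ i < 4, subOk subsOne eltOne i = true := by
  intro i hi
  interval_cases i
  exacts [subOne_ok0, subOne_ok1, subOne_ok2, subOne_ok3]

theorem subTwo_checks : ∀ i < 10, subOk subsTwo eltTwo i = true := by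
  intro i hi
  interval_cases i
  exacts [subTwo_ok0, subTwo_ok1, subTwo_ok2, subTwo_ok3, subTwo_ok4, subTwo_ok5, subTwo_ok6, subTwo_ok7, subTwo_ok8, subTwo_ok9]

end CfsgLib.HNRec.Cz
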