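import Cfsg.Agent.Lib.HNRec.Cz.CheckDefs

/-!
The tables, the squares and the letters.
-/

set_option autoImplicit false
set_option maxRecDepth 100000
set_option Elab.async false

namespace CfsgLib.HNRec.Cz

open CfsgLib.CosetCert CfsgLib.HNxyz CfsgLib.HNxyz.ModEleven

theorem one_check : CosetCert.check dataOne treeOne dedOne = true := by decide +kernel

theorem two_check : CosetCert.check dataTwo treeTwo dedTwo = true := by decide +kernel

theorem sq_checks : (oneW (sWord ++ sWord) && oneW ([0, 0] ++ invL8 [2, 2, 2] ++ sWord)) = true := by decide +kernel

theorem sq_checks' : (oneW [0, 0, 0, 0] && oneW (eltTwo ++ eltTwo)) = true := by decide +kernel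

theorem elt_checks : ([eltOne, eltTwo] : List (List ℕ)).all (fun a =>
    oneW (a ++ sWord ++ invL8 a ++ invL8 sWord)) = true := by decide +kernel

theorem letter_ok0 : letterOk 0 = true := by decide +kernel

theorem letter_ok1 : letterOk 1 = true := by decide +kernel

theorem letter_ok2 : letterOk 2 = true := by decide +kernel

theorem letter_ok3 : letterOk 3 = true := by decide +kernel

theorem letter_ok4 : letterOk 4 = true := by decide +kernel

end CfsgLib.HNRec.Cz
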