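import Cfsg.Agent.Lib.HNRec.Cz.Model
import Cfsg.Agent.Lib.HNAlt.Dense
import Mathlib.Tactic.IntervalCases

/-!
The conditions checked on the tables and on the words behind them.
-/

set_option autoImplicit false
set_option maxRecDepth 100000
set_option Elab.async false

namespace CfsgLib.HNRec.Cz

open CfsgLib.CosetCert CfsgLib.HNxyz CfsgLib.HNxyz.ModEleven

/-- The table of the first orbit. -/
def dataOne : CosetCert.Data :=
  ⟨120, 5, iv, tblGet tblOne, fun i => (repOne.getD (i / 32) []).getD (i % 32) [], relT.map Prod.fst, subsOne⟩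

/-- The table of the second orbit. -/
def dataTwo : CosetCert.Data :=
  ⟨960, 5, iv, tblGet tblTwo, fun i => (repTwo.getD (i / 32) []).getD (i % 32) [], relT.map Prod.fst, subsTwo⟩

/-- The inverse word. -/
def invL8 (w : List ℕ) : List ℕ := w.reverse.map fun g => g ^^^ 1

/-- The letters of a path. -/
def flatP (w : List ℕ) : List ℕ := w.reverse.flatMap fun g => letW.getD g []

/-- A word is trivial in the matrices. -/
def oneW (w : List ℕ) : Bool :=
  (w.all fun g => Nat.blt g matGens.length) && beqL (evalP 133 matGens w) (idP 133)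

/-- The two checks of a letter. -/
def letterOk (g : ℕ) : Bool :=
  oneW (letW.getD g [] ++ letW.getD (iv g) []) &&
    oneW (letW.getD g [] ++ sWord ++ invL8 (letW.getD g []) ++ invL8 sWord)

/-- The check of a relator. -/
def relOk (i : ℕ) : Bool :=
  let r := relT.getD i ([], false)
  r.1.all (fun g => Nat.blt g 5) && oneW (flatP r.1 ++ if r.2 then sWord else [])

/-- The check of a word fixing the first element of an orbit. -/
def subOk (L : List (List ℕ)) (a : List ℕ) (i : ℕ) : Bool :=
  let r := L.getD i []
  r.all (fun g => Nat.blt g 5) && oneW (flatP r ++ a ++ invL8 (flatP r) ++ invL8 a)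

end CfsgLib.HNRec.Cz
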