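import Cfsg.Agent.Lib.HNRec.Cz.Syl
import Cfsg.Agent.Lib.HNRec.EndOf

/-!
# The two classes of involutions of the presented group

Every involution is conjugate into the Sylow subgroup, so to the square of x or to the second involution; the
class elements of the subgroup of the five letters are the numbered ones.
-/

set_option autoImplicit false
set_option maxRecDepth 100000

namespace CfsgLib.HNRec.Cz

open CfsgLib.HNxyz
open Cfsg.Spor (HN)

attribute [local irreducible] rho actP sylE sameM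

theorem gT_eq : (gT : Cfsg.Spor.HN) = hW [0, 0] := by
  simp [gT, gX, hW, hnL, CfsgLib.HNIndex.hnGen]

theorem gT_sq : (gT : Cfsg.Spor.HN) * gT = 1 := by
  have h : sameM ([0, 0] ++ [0, 0]) [] = true := by
    unfold sameM
    decide +kernel
  have e := hW_eq h
  rwa [hW_append, show hW [] = 1 by simp [hW], ← gT_eq] at e

theorem gT_ne : (gT : Cfsg.Spor.HN) ≠ 1 := by
  rw [gT_eq]
  exact trace_ne_one (trW_spec (w := [0, 0]) (by decide)) (by rw [tr_checks.1]; decide)

theorem order_two {g : Cfsg.Spor.HN} (h1 : g ≠ 1) (h2 : g * g = 1) : orderOf g = 2 :=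
  orderOf_eq_prime (by rw [pow_two, h2]) h1

theorem el_conj {i : ℕ} (hi : i < 1080) : IsConj (gT : Cfsg.Spor.HN) (el i) := by
  have h : IsConj (hW [0, 0]) (hW (baseElt i)) := by
    rw [baseElt]
    split_ifs
    · exact IsConj.refl _
    · have e : hW eltTwo = el 120 := by
        rw [el_first]
        simp [W5, gl, show eltTwo = letW.getD 4 [] by decide]
      rw [e]
      exact conj_first
  rw [gT_eq]
  exact h.trans (isConj_iff.2 ⟨actE (repW i), rfl⟩)

/-- A Sylow two-subgroup. -/
noncomputable def sylP (H : Sound) : Sylow 2 Cfsg.Spor.HN :=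
  haveI := CfsgLib.HNIndex.hn_finite
  haveI : Fact (Nat.Prime 2) := ⟨Nat.prime_two⟩
  Sylow.ofCard SS (by
    rw [card_SS H, CfsgLib.HNIndex.hn_card]
    congr 1
    symm
    rw [show 273030912000000 = 2 ^ 14 * 16664484375 by norm_num,
      Nat.factorization_mul (by norm_num) (by norm_num), Finsupp.add_apply,
      Nat.Prime.factorization_pow Nat.prime_two, Finsupp.single_eq_same,
      Nat.factorization_eq_zero_of_not_dvd (by norm_num), add_zero])

section
variable (H : Sound)
include H

theorem involution_cases {w : Cfsg.Spor.HN} (hw : orderOf w = 2) : IsConj w gT ∨ IsConj w sE := by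
  haveI := CfsgLib.HNIndex.hn_finite
  haveI : Fact (Nat.Prime 2) := ⟨Nat.prime_two⟩
  have hp : IsPGroup 2 (Subgroup.zpowers w) :=
    IsPGroup.of_card (n := 1) (by rw [Nat.card_zpowers, hw, pow_one])
  obtain ⟨P, hP⟩ := hp.exists_le_sylow
  obtain ⟨g, hg⟩ := MulAction.exists_smul_eq Cfsg.Spor.HN P (sylP H)
  have hm : g * w * g⁻¹ ∈ SS := by
    have h1 : g * w * g⁻¹ ∈ ((g • P : Sylow 2 Cfsg.Spor.HN) : Subgroup Cfsg.Spor.HN) := by
      rw [Sylow.coe_subgroup_smul]
      exact Subgroup.mem_pointwise_smul_iff_inv_smul_mem.2 (by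
        simpa [MulAut.smul_def, mul_assoc] using hP (Subgroup.mem_zpowers w))
    rw [hg] at h1
    exact h1
  have hw2 : w * w = 1 := by rw [← pow_two, ← hw, pow_orderOf_eq_one]
  have hw1 : w ≠ 1 := fun e => by rw [e, orderOf_one] at hw; exact absurd hw (by norm_num)
  have hc : IsConj w (g * w * g⁻¹) := isConj_iff.2 ⟨g, rfl⟩
  rcases inv_cases H hm (fun e => hw1 (by simpa [mul_assoc] using congrArg (fun x => g⁻¹ * x * g) e))
    (by rw [show g * w * g⁻¹ * (g * w * g⁻¹) = g * (w * w) * g⁻¹ by group, hw2]; group) with ⟨i, hi, e⟩ | e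
  · exact Or.inl (hc.trans (e ▸ (el_conj hi).symm))
  · exact Or.inr (hc.trans e)

theorem twoClasses_of : TwoClasses sE where
  t_order := order_two gT_ne gT_sq
  s_order := order_two sE_ne sE_sq
  ne := fun h => not_conj (gT_eq ▸ h)
  cls := fun _ => involution_cases H
  two_part := by
    have hle : SS ≤ Subgroup.centralizer ({sE} : Set Cfsg.Spor.HN) := by
      intro g hg
      obtain ⟨i, hi, e⟩ := SS_cases H hg
      have hc := W5_comm (entry hi).1
      rcases e with rfl | rfl
      · exact Subgroup.mem_centralizer_singleton_iff.2 hc.eq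
      · exact Subgroup.mem_centralizer_singleton_iff.2 (hc.mul_left (Commute.refl _)).eq
    have := Subgroup.card_dvd_of_le hle
    rw [card_SS H] at this
    exact dvd_trans (pow_dvd_pow 2 (by norm_num)) this

/-- The class elements of the subgroup are the numbered ones. -/
theorem class_complete {a : Cfsg.Spor.HN} (ha : IsConj gT a) (haK : a ∈ K) : ∃ i < 1080, el i = a := by
  haveI := CfsgLib.HNIndex.hn_finite
  haveI : Fact (Nat.Prime 2) := ⟨Nat.prime_two⟩
  obtain ⟨c, hc⟩ := isConj_iff.1 ha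
  have a2 : a * a = 1 := by
    rw [← hc, show c * gT * c⁻¹ * (c * gT * c⁻¹) = c * (gT * gT) * c⁻¹ by group, gT_sq]; group
  have a1 : a ≠ 1 := fun e => gT_ne (by rw [e] at hc; simpa [mul_assoc] using congrArg (fun x => c⁻¹ * x * c) hc)
  set a' : K := ⟨a, haK⟩
  have hp : IsPGroup 2 (Subgroup.zpowers a') :=
    IsPGroup.of_card (n := 1) (by
      rw [Nat.card_zpowers, pow_one]
      exact orderOf_eq_prime (Subtype.ext (by simp [a', pow_two, a2])) fun e => a1 (congrArg Subtype.val e))
  let Q : Sylow 2 K := (sylP H).subtype (SS_le H)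
  obtain ⟨P, hP⟩ := hp.exists_le_sylow
  obtain ⟨k, hk⟩ := MulAction.exists_smul_eq K P Q
  have hm : ((k * a' * k⁻¹ : K) : Cfsg.Spor.HN) ∈ SS := by
    have h1 : k * a' * k⁻¹ ∈ ((k • P : Sylow 2 K) : Subgroup K) := by
      rw [Sylow.coe_subgroup_smul]
      exact Subgroup.mem_pointwise_smul_iff_inv_smul_mem.2 (by
        simpa [MulAut.smul_def, mul_assoc] using hP (Subgroup.mem_zpowers a'))
    rw [hk] at h1
    exact Subgroup.mem_subgroupOf.1 h1
  simp only [Subgroup.coe_mul, Subgroup.coe_inv, a'] at hm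
  set kk : Cfsg.Spor.HN := (k : Cfsg.Spor.HN)
  rcases inv_cases H hm (fun e => a1 (by simpa [mul_assoc] using congrArg (fun x => kk⁻¹ * x * kk) e))
    (by rw [show kk * a * kk⁻¹ * (kk * a * kk⁻¹) = kk * (a * a) * kk⁻¹ by group, a2]; group) with ⟨i, hi, e⟩ | e
  · have hword : ∃ w : List ℕ, (∀ g ∈ w, g < 5) ∧ W5 w = kk⁻¹ := exists_word H (inv_mem k.2)
    obtain ⟨w, hw, ew⟩ := hword
    obtain ⟨q1, q2⟩ := evB_el H hw hi
    refine ⟨_, q1, ?_⟩
    rw [← q2, ew, e]
    group
  · exact absurd ((ha.trans (isConj_iff.2 ⟨kk, rfl⟩)).trans e) (fun h => not_conj (gT_eq ▸ h))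

end

end CfsgLib.HNRec.Cz
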