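import Cfsg.Agent.Lib.HNRec.Cz.Data
import Cfsg.Agent.Lib.HNRec.Tree
import Cfsg.Agent.Lib.HNxyz.Rep
import Cfsg.Agent.Lib.HNIndex.Index
import Cfsg.Agent.Lib.CosetCert.Basic

/-!
The numbered elements of the class inside the centraliser of the second involution of the presented group.
-/

set_option autoImplicit false
set_option maxRecDepth 100000

namespace CfsgLib.HNRec.Cz

open Cfsg.Spor (HN)
open CfsgLib.HNIndex (hnGen)

/-- The elements of the eight letters. -/
noncomputable def hnL : ℕ → Cfsg.Spor.HN
  | 0 => hnGen .x
  | 1 => (hnGen .x)⁻¹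
  | 2 => hnGen .y
  | 3 => (hnGen .y)⁻¹
  | 4 => hnGen .z
  | 5 => (hnGen .z)⁻¹
  | 6 => hnGen .t
  | 7 => (hnGen .t)⁻¹
  | _ => 1

/-- The element of a word. -/
noncomputable def hW (w : List ℕ) : Cfsg.Spor.HN := (w.map hnL).prod

/-- The second involution. -/
noncomputable def sE : Cfsg.Spor.HN := hW sWord

/-- The element of one of the five letters of the subgroup. -/
noncomputable def gl (g : ℕ) : Cfsg.Spor.HN := hW (letW.getD g [])

/-- The subgroup of the five letters. -/
noncomputable def K : Subgroup Cfsg.Spor.HN := Subgroup.closure (gl '' Set.Iio 5)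

/-- The inverse letter. -/
def iv (g : ℕ) : ℕ := ivT.getD g 0

/-- An entry of a table. -/
def tblGet (T : List (List ℕ)) (i g : ℕ) : ℕ := (((T.getD (i / 32) []).getD (i % 32) 0) >>> (10 * g)) % 1024

/-- The image of a point under a letter. -/
def actN (g i : ℕ) : ℕ := if i < 120 then tblGet tblOne i g else 120 + tblGet tblTwo (i - 120) g

/-- The path to a point. -/
def repW (i : ℕ) : List ℕ :=
  if i < 120 then (repOne.getD (i / 32) []).getD (i % 32) [] else (repTwo.getD ((i - 120) / 32) []).getD ((i - 120) % 32) []

/-- The first element of the orbit of a point. -/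
def baseElt (i : ℕ) : List ℕ := if i < 120 then eltOne else eltTwo

/-- The product of the letters along a path, the head first. -/
noncomputable def actE (w : List ℕ) : Cfsg.Spor.HN := CosetCert.act gl w

/-- The numbered elements. -/
noncomputable def el (i : ℕ) : Cfsg.Spor.HN := actE (repW i) * hW (baseElt i) * (actE (repW i))⁻¹

/-- Each numbered element as a word in the letters, up to the second involution. -/
def ptWord (i : ℕ) : List ℕ :=
  (repW i).reverse ++ (if i < 120 then [0, 0, 0] else [4]) ++ (repW i).map iv

/-- The finite model. -/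
def tabs : Tabs where
  N := 1080
  act := actN
  word := ptWord
  base := [0, 122, 136]

end CfsgLib.HNRec.Cz
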