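import Cfsg.Agent.Lib.HNRec.Cz.Frames
import Cfsg.Agent.Lib.HNRec.Cz.Classes
import Cfsg.Agent.Lib.HNRec.ModelCheck
import Cfsg.Agent.Lib.HNRec.End
import Cfsg.Agent.Lib.HNRec.Cz.Bridge
import Cfsg.Agent.Lib.HNOut.Point

/-!
The facts about the numbered conjugates of the first involution in the centraliser of the second.
-/

set_option autoImplicit false
set_option maxRecDepth 100000

namespace CfsgLib.HNRec.Cz

open CfsgLib.HNIndex
open Cfsg.Spor (HN)

theorem isConj_gT_iff {a : Cfsg.Spor.HN} : IsConj gT a ↔ a ∈ classA := isConj_iff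

/-- The centraliser of the square of the first generator. -/
theorem centraliser_gT : Subgroup.centralizer ({gT} : Set Cfsg.Spor.HN) = hnSub := by
  refine le_antisymm (fun g hg => CfsgLib.HNOut.gs_centraliser (Subgroup.mem_centralizer_singleton_iff.1 hg)) ?_
  exact fun g hg => Subgroup.mem_centralizer_singleton_iff.2 (CfsgLib.HNOut.gs_comm hg).eq.symm

/-- What the Sylow subgroup argument uses. -/
theorem sound : Sound where
  act_el := fun _ hg _ hi => conj_el hg hi
  inj := fun _ hi _ hj e => el_inj hi hj e
  s_mem := sE_mem_K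
  faith := fun _ hg h => faith centraliser_gT (K_le_Zs hg) fun b hb => h b hb

theorem czFacts (hC : Subgroup.centralizer ({gT} : Set Cfsg.Spor.HN) = hnSub) :
    CzFacts tabs sE el gl := by
  have hcomp : ∀ a ∈ classA, a ∈ K → ∃ i < 1080, el i = a := fun a ha haK =>
    class_complete sound (isConj_gT_iff.2 ha) haK
  have hZ : Zs ≤ K := zs_le_K hC hcomp agrees_model Model.tree Model.tree_checked
  refine ⟨fun i _ => ⟨isConj_gT_iff.2 (el_class i), ?_⟩, ?_, ?_, ?_, ?_, ?_, ?_⟩
  · exact Subgroup.mem_centralizer_singleton_iff.1 (el_mem_Zs i)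
  · intro a ha hs
    exact hcomp a (isConj_gT_iff.1 ha) (hZ (Subgroup.mem_centralizer_singleton_iff.2 hs.eq))
  · exact fun i hi j hj e => el_inj hi hj e
  · intro i hi g hg
    exact ⟨Subgroup.mem_centralizer_singleton_iff.1 (word_act hi hg).1, (word_act hi hg).2⟩
  · exact fun i hi => word_eq hi
  · intro b hb
    simp only [tabs, List.mem_cons, List.not_mem_nil, or_false] at hb
    rcases hb with rfl | rfl | rfl <;> norm_num [tabs]
  · exact fun g hg hb => faith hC (Subgroup.mem_centralizer_singleton_iff.2 hg.eq) hb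

theorem twoClasses : TwoClasses sE := twoClasses_of sound

/-- The endgame. -/
theorem endSpec : EndSpec := endSpec_of_facts czFacts twoClasses

/-- The two classes. -/
theorem classesSpec : ClassesSpec := classesSpec_of twoClasses

end CfsgLib.HNRec.Cz
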