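import Mathlib.Data.Nat.Notation

/-!
Certificates for the injectivity of the numbering: steps to the representatives, and walks.
-/

set_option autoImplicit false
set_option maxRecDepth 100000

namespace CfsgLib.HNRec.Cz

/-- The number of the stabilising word to apply, one more than its place. -/
def stepT : List (List ℕ) := [
  [0, 0, 2, 2, 3, 1, 3, 1, 3, 4, 2, 0, 3, 2, 1, 0, 3, 1, 2, 4, 4, 2, 3, 4, 4, 3, 3, 1, 2, 4, 3, 3],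
  [3, 1, 2, 2, 4, 4, 4, 1, 3, 4, 3, 3, 4, 2, 2, 4, 3, 3, 1, 2, 4, 4, 3, 2, 2, 4, 0, 2, 3, 4, 1, 2],
  [1, 4, 3, 4, 4, 4, 4, 1, 4, 4, 1, 4, 4, 4, 3, 3, 1, 1, 4, 4, 4, 3, 3, 1, 4, 2, 1, 4, 4, 3, 3, 1],
  [2, 1, 3, 1, 4, 2, 3, 4, 4, 1, 3, 3, 3, 4, 4, 2, 4, 2, 4, 2, 1, 3, 2, 4, 0, 0, 0, 2, 0, 1, 0, 5],
  [0, 10, 7, 3, 1, 0, 10, 5, 6, 1, 8, 3, 6, 1, 2, 4, 8, 7, 5, 3, 5, 3, 4, 1, 0, 3, 10, 6, 3, 5, 10, 2],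
  [4, 4, 8, 9, 2, 9, 9, 2, 7, 8, 4, 4, 10, 2, 5, 9, 2, 2, 6, 2, 8, 10, 5, 10, 7, 5, 4, 5, 8, 5, 9, 2],
  [8, 7, 9, 7, 10, 5, 5, 9, 1, 6, 8, 5, 9, 5, 7, 5, 9, 7, 10, 8, 6, 10, 4, 6, 7, 2, 10, 8, 4, 8, 8, 9],
  [7, 4, 8, 3, 2, 10, 6, 9, 5, 2, 7, 8, 7, 8, 8, 8, 7, 2, 5, 5, 10, 10, 4, 10, 4, 2, 5, 4, 5, 8, 4, 8],
  [9, 8, 2, 5, 5, 6, 4, 4, 7, 2, 2, 4, 4, 5, 2, 9, 2, 5, 3, 8, 10, 4, 3, 3, 5, 7, 9, 4, 9, 7, 3, 9],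
  [9, 2, 6, 5, 5, 10, 4, 5, 10, 9, 9, 10, 6, 8, 4, 6, 9, 10, 6, 2, 9, 6, 8, 0, 9, 9, 7, 0, 7, 5, 2, 5],
  [5, 4, 8, 10, 2, 10, 9, 4, 4, 3, 8, 7, 7, 10, 3, 10, 3, 5, 8, 9, 4, 4, 3, 10, 7, 9, 5, 8, 7, 5, 3, 10],
  [10, 7, 8, 10, 5, 2, 5, 7, 10, 5, 3, 8, 7, 9, 9, 4, 4, 9, 7, 10, 3, 8, 5, 7, 7, 5, 8, 4, 8, 5, 7, 8],
  [2, 2, 7, 9, 3, 5, 8, 5, 8, 5, 3, 6, 9, 9, 4, 4, 10, 10, 10, 4, 9, 4, 5, 9, 2, 10, 6, 3, 8, 8, 6, 6],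
  [7, 9, 9, 6, 8, 3, 2, 4, 2, 4, 2, 4, 4, 3, 6, 10, 4, 2, 4, 6, 2, 2, 10, 6, 4, 8, 4, 8, 2, 10, 6, 7],
  [3, 7, 9, 10, 8, 10, 6, 6, 3, 4, 3, 2, 4, 10, 3, 2, 5, 10, 2, 8, 4, 2, 10, 6, 4, 2, 2, 9, 8, 3, 4, 5],
  [10, 9, 10, 8, 8, 4, 3, 10, 5, 3, 7, 5, 2, 3, 9, 7, 5, 7, 6, 2, 4, 3, 9, 3, 10, 3, 8, 9, 4, 4, 8, 5],
  [9, 4, 4, 9, 6, 7, 2, 7, 7, 7, 5, 2, 8, 4, 8, 5, 5, 6, 3, 4, 5, 2, 7, 5, 2, 7, 4, 10, 2, 8, 4, 3],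
  [3, 9, 3, 3, 10, 10, 4, 8, 3, 2, 5, 5, 6, 9, 5, 10, 4, 10, 3, 10, 8, 8, 8, 9, 9, 8, 5, 7, 3, 8, 5, 9],
  [5, 7, 6, 10, 9, 7, 7, 8, 4, 6, 5, 7, 5, 4, 5, 7, 2, 8, 4, 8, 3, 8, 8, 5, 8, 4, 4, 8, 2, 2, 9, 4],
  [8, 5, 7, 7, 6, 5, 5, 2, 5, 8, 10, 10, 2, 4, 9, 3, 4, 5, 5, 2, 6, 8, 9, 10, 4, 2, 6, 7, 3, 2, 9, 8],
  [8, 8, 5, 5, 8, 5, 5, 3, 5, 4, 2, 8, 4, 2, 2, 4, 9, 10, 10, 2, 2, 9, 4, 8, 10, 9, 4, 5, 6, 3, 9, 6],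
  [10, 5, 8, 8, 7, 3, 2, 6, 10, 8, 5, 3, 10, 2, 4, 4, 9, 3, 7, 2, 10, 9, 4, 10, 8, 10, 3, 5, 2, 9, 10, 6],
  [2, 8, 9, 8, 2, 5, 10, 8, 2, 5, 4, 9, 10, 3, 3, 6, 10, 5, 5, 2, 10, 4, 10, 4, 4, 4, 2, 2, 5, 5, 10, 6],
  [9, 10, 5, 7, 8, 3, 3, 8, 4, 6, 6, 7, 7, 9, 10, 4, 8, 2, 10, 4, 3, 2, 4, 6, 9, 3, 8, 7, 8, 7, 10, 9],
  [7, 2, 2, 9, 10, 10, 4, 4, 9, 3, 10, 3, 9, 2, 3, 5, 10, 2, 7, 9, 7, 8, 2, 3, 10, 4, 8, 4, 9, 7, 3, 9],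
  [7, 5, 10, 2, 4, 4, 2, 9, 7, 4, 5, 4, 9, 4, 7, 2, 9, 4, 8, 10, 7, 9, 4, 5, 2, 5, 4, 9, 4, 4, 3, 2],
  [9, 8, 2, 7, 2, 7, 3, 3, 10, 4, 7, 10, 9, 2, 2, 10, 3, 9, 6, 5, 7, 4, 10, 8, 7, 7, 10, 8, 10, 8, 7, 7],
  [7, 5, 10, 5, 7, 3, 10, 6, 2, 7, 4, 6, 7, 8, 4, 4, 7, 6, 3, 5, 10, 7, 2, 7, 9, 9, 2, 3, 8, 8, 10, 6],
  [7, 9, 9, 2, 9, 2, 4, 10, 4, 8, 2, 6, 7, 2, 5, 10, 4, 7, 3, 4, 9, 2, 8, 4, 2, 5, 7, 10, 8, 7, 6, 3],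
  [8, 10, 2, 2, 8, 6, 3, 7, 2, 5, 2, 6, 6, 6, 5, 7, 2, 7, 8, 2, 3, 7, 9, 9, 4, 9, 4, 2, 4, 8, 10, 2],
  [3, 10, 3, 8, 5, 7, 2, 3, 10, 6, 2, 4, 2, 2, 9, 4, 2, 7, 10, 4, 8, 5, 7, 9, 8, 9, 4, 3, 8, 3, 7, 10],
  [2, 2, 9, 3, 8, 7, 5, 4, 5, 4, 7, 8, 4, 5, 2, 2, 10, 4, 3, 7, 3, 7, 6, 4, 4, 10, 8, 9, 4, 4, 10, 10],
  [7, 7, 2, 10, 7, 9, 2, 5, 9, 2, 3, 4, 7, 9, 4, 10, 3, 8, 2, 4, 3, 6, 5, 4, 9, 9, 5, 8, 8, 2, 8, 9],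
  [8, 6, 4, 10, 2, 3, 9, 5, 2, 8, 4, 8, 7, 4, 7, 7, 3, 7, 2, 2, 7, 5, 5, 5]]

/-- Walks from the first point to its partner. -/
def walksOne : List (ℕ × List (List ℕ × Bool)) := [
  (1, [([], false), ([1, 4, 1, 4, 2], false)]),
  (11, [([], false), ([0, 4, 0, 2, 0, 2, 4, 3], false)]),
  (15, [([], false), ([0, 4, 3, 4, 3, 0, 2], false)]),
  (58, [([], false)])]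

/-- Walks from the first point of the second orbit to the tested point. -/
def walksTwo : List (ℕ × List (List ℕ × Bool)) := [
  (121, [([2, 1, 4, 2, 4, 1, 1, 3], true), ([0, 2, 1, 3, 4, 3, 0, 2, 4], false)]),
  (122, [([], false), ([3, 1, 3, 4, 1, 4, 2, 0], true)]),
  (124, [([], false), ([0, 3, 0, 0, 4, 3, 0, 2, 4], false)]),
  (126, [([], false), ([2, 0, 0, 3, 4, 2, 1], false)]),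
  (128, [([], false), ([3, 0, 2, 4, 3, 1, 2], true)]),
  (133, [([1, 2, 0, 2, 1, 4, 1, 2], true), ([1, 2, 4, 0, 0, 3, 4, 2], false)]),
  (152, [([2, 4, 3], false), ([2, 4, 2, 0, 2, 4, 3, 1, 2], true)]),
  (311, [([], false)]),
  (315, [([0, 2, 4, 1, 4, 0, 3], false), ([0, 3, 4, 0, 2, 1, 2], false)])]

end CfsgLib.HNRec.Cz
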