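import Cfsg.Agent.Lib.HNRec.Cz.Model
import Cfsg.Agent.Lib.HNRec.Cz.InjData

/-!
The checks of the certificates for the injectivity of the numbering.
-/

set_option autoImplicit false
set_option maxRecDepth 100000
set_option Elab.async false

namespace CfsgLib.HNRec.Cz

/-- The image of a point under the letters of a path, the head first. -/
def apP (w : List ℕ) (x : ℕ) : ℕ := w.foldl (fun y g => actN g y) x

/-- The inverse path. -/
def invP (w : List ℕ) : List ℕ := (w.map iv).reverse

/-- The first point of the orbit of a point. -/
def rootOf (i : ℕ) : ℕ := if i < 120 then 0 else 120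

/-- Follow the steps to a representative. -/
def chase (L : List (List ℕ)) : ℕ → ℕ → ℕ
  | 0, x => x
  | n + 1, x =>
    let s := (stepT.getD (x / 32) []).getD (x % 32) 0
    if s = 0 then x else chase L n (apP (L.getD (s - 1) []) x)

/-- A walk from the first point by translated copies of a pair. -/
def walkEnd (root r : ℕ) : List (List ℕ × Bool) → ℕ → Option ℕ
  | [], cur => some cur
  | (w, f) :: l, cur =>
    if (w.all fun g => Nat.blt g 5) && Nat.beq (apP w (if f then r else root)) cur then
      walkEnd root r l (apP w (if f then root else r))
    else none

/-- A point leads to a representative with a walk to the target. -/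
def leads (root tgt : ℕ) (L : List (List ℕ)) (W : List (ℕ × List (List ℕ × Bool))) (j : ℕ) : Bool :=
  W.any fun e => Nat.beq e.1 (chase L 8 j) && (walkEnd root e.1 e.2 root == some tgt)

/-- The letters of a path are among the five and the path fixes the point. -/
def fixesPt (L : List (List ℕ)) (p : ℕ) : Bool :=
  L.all fun s => (s.all fun g => Nat.blt g 5) && Nat.beq (apP s p) p

theorem act_checks : ((List.range 1080).all fun i => (List.range 5).all fun g =>
    Nat.beq (actN (iv g) (actN g i)) i && Nat.blt (iv g) 5 && (Nat.blt (actN g i) 120 == Nat.blt i 120)) = true := by
  decide +kernel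

theorem root_checks : ((List.range 1080).all fun i =>
    (repW i).all (fun g => Nat.blt g 5) && Nat.beq (apP (repW i) (rootOf i)) i) = true := by
  decide +kernel

theorem fix_checks : (fixesPt subsOne 0 && fixesPt subsTwo 120) = true := by decide +kernel

theorem leads_one : ((List.range 120).all fun j => Nat.beq j 0 || leads 0 58 subsOne walksOne j) = true := by
  decide +kernel

theorem leads_two : ((List.range 960).all fun j =>
    Nat.beq j 0 || leads 120 311 subsTwo walksTwo (120 + j)) = true := by
  decide +kernel

theorem moves_checks : ((List.range 960).all fun j =>
    subsOne.any fun s => !Nat.beq (apP s (120 + j)) (120 + j)) = true := by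
  decide +kernel

theorem word_letters : ((List.range 1080).all fun i => (ptWord i).all fun g => Nat.blt g 5) = true := by
  decide +kernel

theorem rep_letters : ((List.range 1080).all fun i => (repW i).all fun g => Nat.blt g 5) = true := by
  decide +kernel

end CfsgLib.HNRec.Cz
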