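import Cfsg.Agent.Lib.HNRec.Cz.Orbit
import Cfsg.Agent.Lib.HNRec.Cz.InjCheck
import Cfsg.Agent.Lib.HNRec.Spec

/-!
The numbered elements: class, subgroup, and words up to the second involution.
-/

set_option autoImplicit false
set_option maxRecDepth 100000

namespace CfsgLib.HNRec.Cz

open CfsgLib.HNxyz CfsgLib.HNAlt
open Cfsg.Spor (HN)

/-- The class of the square of the first generator. -/
def classA : Set Cfsg.Spor.HN := {a | ∃ g : Cfsg.Spor.HN, g * (gX * gX) * g⁻¹ = a}

/-- The kernel of the action on the numbered elements. -/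
noncomputable abbrev E0 : Subgroup Cfsg.Spor.HN := Subgroup.zpowers sE

theorem eltOne_eq : hW eltOne = gX * gX := by
  rw [show eltOne = [0, 0] from rfl]
  simp [hW, hnL]

/-- A word carrying the first element to the second. -/
def conjTwo : List ℕ := [0, 7, 3, 4, 0, 6]

theorem conjTwo_check : oneW (conjTwo ++ [0, 0] ++ invL8 conjTwo ++ invL8 eltTwo) = true := by decide +kernel

theorem eltTwo_class : hW eltTwo ∈ classA := by
  refine ⟨hW conjTwo, ?_⟩
  have e := oneW_spec conjTwo_check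
  rw [hW_app, hW_app, hW_app, hW_invL8 conjTwo (by decide), hW_invL8 eltTwo words_lt.2.2,
    mul_inv_eq_one] at e
  rw [← eltOne_eq]
  exact e

theorem eltTwo_sq : hW eltTwo * hW eltTwo = 1 := by
  have h := sq_checks'
  simp only [Bool.and_eq_true] at h
  have := oneW_spec h.2
  rwa [hW_app] at this

theorem y_cube : hW [2, 2, 2] = (gX * gX) * sE ∧ sE * (gX * gX) = (gX * gX) * sE := by
  have h := sq_checks
  simp only [Bool.and_eq_true] at h
  have e := oneW_spec h.2
  rw [hW_app, hW_app, hW_invL8 [2, 2, 2] (by decide), show hW [0, 0] = hW eltOne from rfl, eltOne_eq] at e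
  have hc := Subgroup.mem_centralizer_singleton_iff.1 elt_mem.1
  rw [eltOne_eq] at hc
  refine ⟨?_, hc.symm⟩
  have e' : hW [2, 2, 2] = sE * (gX * gX) := by
    have e2 : (hW [2, 2, 2])⁻¹ * sE = (gX * gX)⁻¹ := eq_inv_of_mul_eq_one_right (by rw [← mul_assoc]; exact e)
    have e3 : sE = hW [2, 2, 2] * (gX * gX)⁻¹ := by rw [← e2, mul_inv_cancel_left]
    rw [e3, inv_mul_cancel_right]
  rw [e', ← hc]

theorem repW_lt {i : ℕ} (hi : i < 1080) : ∀ g ∈ repW i, g < 5 := by
  intro g hg
  exact Nat.le_of_ble_eq_true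
    (List.all_eq_true.1 (List.all_eq_true.1 rep_letters i (List.mem_range.2 hi)) g hg)

theorem gl_mem_K {g : ℕ} (hg : g < 5) : gl g ∈ K := Subgroup.subset_closure ⟨g, hg, rfl⟩

theorem actE_mem_K : ∀ {w : List ℕ}, (∀ g ∈ w, g < 5) → actE w ∈ K
  | [], _ => K.one_mem
  | g :: w, hw => by
    rw [actE_cons]
    exact K.mul_mem (actE_mem_K fun x hx => hw x (List.mem_cons_of_mem _ hx)) (gl_mem_K (hw g (List.mem_cons_self ..)))

theorem eltTwo_gl : hW eltTwo = gl 4 := rfl

theorem el_class (i : ℕ) : el i ∈ classA := by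
  have key : hW (baseElt i) ∈ classA := by
    unfold baseElt
    split_ifs
    · exact ⟨1, by rw [eltOne_eq]; simp⟩
    · exact eltTwo_class
  obtain ⟨g, hg⟩ := key
  exact ⟨actE (repW i) * g, by rw [el, ← hg]; group⟩

theorem el_sq (i : ℕ) : el i * el i = 1 := by
  have h : hW (baseElt i) * hW (baseElt i) = 1 := by
    unfold baseElt
    split_ifs
    · have h := sq_checks'
      simp only [Bool.and_eq_true] at h
      have e := oneW_spec h.1
      rw [show ([0, 0, 0, 0] : List ℕ) = eltOne ++ eltOne from rfl, hW_app] at e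
      exact e
    · exact eltTwo_sq
  rw [el, show ∀ (P a : Cfsg.Spor.HN), P * a * P⁻¹ * (P * a * P⁻¹) = P * (a * a) * P⁻¹ from
    fun P a => by group, h, mul_one, mul_inv_cancel]

theorem el_mem_Zs (i : ℕ) : el i ∈ Zs := by
  refine mul_mem (mul_mem (actE_mem _) ?_) (inv_mem (actE_mem _))
  unfold baseElt
  split_ifs
  exacts [elt_mem.1, elt_mem.2]

theorem prod_iv : ∀ {w : List ℕ}, (∀ g ∈ w, g < 5) → ((w.map iv).map gl).prod = (actE w)⁻¹
  | [], _ => by simp [actE]
  | g :: w, hw => by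
    rw [List.map_cons, List.map_cons, List.prod_cons, prod_iv fun x hx => hw x (List.mem_cons_of_mem _ hx),
      gl_inv (hw g (List.mem_cons_self ..)), actE_cons, mul_inv_rev]

theorem prod_reverse : ∀ w : List ℕ, (w.reverse.map gl).prod = actE w
  | [] => by simp [actE]
  | g :: w => by simp [actE_cons, ← prod_reverse w]

/-- The value of the word of a point. -/
theorem ptWord_val {i : ℕ} (hi : i < 1080) :
    ((ptWord i).map gl).prod = if i < 120 then el i * sE else el i := by
  rw [ptWord, List.map_append, List.map_append, List.prod_append, List.prod_append, prod_reverse,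
    prod_iv (repW_lt hi)]
  by_cases h1 : i < 120
  · rw [if_pos h1, if_pos h1, el, baseElt, if_pos h1]
    have e : (([0, 0, 0] : List ℕ).map gl).prod = hW [2, 2, 2] := by
      have e0 : gl 0 = hW [2] := rfl
      simp [e0, hW, mul_assoc]
    rw [e, y_cube.1, eltOne_eq]
    have hc : sE * (actE (repW i))⁻¹ = (actE (repW i))⁻¹ * sE :=
      (Subgroup.mem_centralizer_singleton_iff.1 (inv_mem (actE_mem (repW i)))).symm
    simp only [mul_assoc, hc]
  · rw [if_neg h1, if_neg h1, el, baseElt, if_neg h1, eltTwo_gl]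
    simp

theorem word_eq {i : ℕ} (hi : i < 1080) : el i * ((ptWord i).map gl).prod⁻¹ ∈ E0 := by
  rw [ptWord_val hi]
  split_ifs
  · rw [mul_inv_rev, show ∀ a b : Cfsg.Spor.HN, a * (b⁻¹ * a⁻¹) = (a * b * a⁻¹)⁻¹ from fun a b => by group]
    have hc := Subgroup.mem_centralizer_singleton_iff.1 (el_mem_Zs i)
    rw [hc, mul_inv_cancel_right]
    exact inv_mem (Subgroup.mem_zpowers _)
  · rw [mul_inv_cancel]
    exact one_mem _

theorem ptWord_lt {i : ℕ} (hi : i < 1080) : ∀ g ∈ ptWord i, g < 5 := fun g hg =>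
  Nat.le_of_ble_eq_true (List.all_eq_true.1 (List.all_eq_true.1 word_letters i (List.mem_range.2 hi)) g hg)

theorem sE_mem_K : sE ∈ K := by
  have h := rel_checks 2 (by norm_num)
  simp only [relOk, Bool.and_eq_true, List.all_eq_true, Nat.blt_eq] at h
  have hl : relT.getD 2 ([], false) = (([2, 0, 4, 3, 4, 1, 3, 1, 1, 4, 3, 1, 3, 0, 4, 1] : List ℕ), true) := rfl
  rw [hl] at h
  have e := oneW_spec h.2
  rw [hW_app, (flatP_spec _).1, show hW (if true = true then sWord else []) = sE from rfl] at e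
  rw [show sE = (actE [2, 0, 4, 3, 4, 1, 3, 1, 1, 4, 3, 1, 3, 0, 4, 1])⁻¹ from (inv_eq_of_mul_eq_one_right e).symm]
  exact inv_mem (actE_mem_K h.1)

theorem el_mem_K {i : ℕ} (hi : i < 1080) : el i ∈ K := by
  refine mul_mem (mul_mem (actE_mem_K (repW_lt hi)) ?_) (inv_mem (actE_mem_K (repW_lt hi)))
  unfold baseElt
  split_ifs
  · have e : hW eltOne = hW [2, 2, 2] * sE⁻¹ := by rw [y_cube.1, eltOne_eq, mul_inv_cancel_right]
    have hs : sE ∈ K := sE_mem_K
    rw [e, show hW [2, 2, 2] = hW [2] * hW [2] * hW [2] by simp [hW, mul_assoc]]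
    exact mul_mem (mul_mem (mul_mem (gl_mem_K (g := 0) (by norm_num)) (gl_mem_K (g := 0) (by norm_num)))
      (gl_mem_K (g := 0) (by norm_num))) (inv_mem hs)
  · exact eltTwo_gl ▸ gl_mem_K (by norm_num)

end CfsgLib.HNRec.Cz
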