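import Mathlib.Data.Nat.Notation

/-!
Words fixing the first point of each orbit and moving two further points everywhere in their orbits.
-/

set_option autoImplicit false
set_option maxRecDepth 100000

namespace CfsgLib.HNRec.Cz

/-- Words moving the point 122. -/
def moveOneA : List (List (List ℕ)) := [
  [[], [0], [2,0,0,0,3,1], [2,0,0,0,3,4], [2,0,2,4,1,3], [0,2,0,0,0,3,1], [0,2,0,0,0,3,4], [0,2,0,2,4,1,3], [2,0,0,0,3,1,2,0,0,0,3,1], [2,0,0,0,3,1,2,0,0,0,3,4], [2,0,0,0,3,1,2,0,2,4,1,3], [2,0,0,0,3,4,0], [2,0,0,0,3,4,2,0,0,0,3,1], [2,0,0,0,3,4,2,0,2,4,1,3], [2,0,2,4,1,3,0], [2,0,2,4,1,3,2,0,0,0,3,1]],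
  [[2,0,2,4,1,3,2,0,0,0,3,4], [2,0,2,4,1,3,2,0,2,4,1,3], [0,2,0,0,0,3,1,0], [0,2,0,0,0,3,1,2,0,0,0,3,1], [0,2,0,0,0,3,1,2,0,0,0,3,4], [0,2,0,0,0,3,4,0], [0,2,0,0,0,3,4,2,0,0,0,3,1], [0,2,0,0,0,3,4,2,0,0,0,3,4], [0,2,0,0,0,3,4,2,0,2,4,1,3], [0,2,0,2,4,1,3,0], [0,2,0,2,4,1,3,2,0,0,0,3,1], [0,2,0,2,4,1,3,2,0,0,0,3,4], [0,2,0,2,4,1,3,2,0,2,4,1,3], [2,0,0,0,3,1,2,0,0,0,3,1,0], [2,0,0,0,3,1,2,0,0,0,3,1,2,0,0,0,3,1], [2,0,0,0,3,1,2,0,0,0,3,1,2,0,0,0,3,4]],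
  [[2,0,0,0,3,1,2,0,0,0,3,1,2,0,2,4,1,3], [2,0,0,0,3,1,2,0,0,0,3,4,0], [2,0,0,0,3,1,2,0,0,0,3,4,2,0,0,0,3,1], [2,0,0,0,3,1,2,0,0,0,3,4,2,0,0,0,3,4], [2,0,0,0,3,1,2,0,0,0,3,4,2,0,2,4,1,3], [2,0,0,0,3,1,2,0,2,4,1,3,0], [2,0,0,0,3,1,2,0,2,4,1,3,2,0,0,0,3,4], [2,0,0,0,3,1,2,0,2,4,1,3,2,0,2,4,1,3], [2,0,0,0,3,4,0,2,0,0,0,3,1], [2,0,0,0,3,4,0,2,0,0,0,3,4], [2,0,0,0,3,4,0,2,0,2,4,1,3], [2,0,0,0,3,4,2,0,0,0,3,1,2,0,0,0,3,1], [2,0,0,0,3,4,2,0,0,0,3,1,2,0,0,0,3,4], [2,0,0,0,3,4,2,0,0,0,3,1,2,0,2,4,1,3], [2,0,0,0,3,4,2,0,2,4,1,3,0], [2,0,0,0,3,4,2,0,2,4,1,3,2,0,0,0,3,1]],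
  [[2,0,0,0,3,4,2,0,2,4,1,3,2,0,0,0,3,4], [2,0,0,0,3,4,2,0,2,4,1,3,2,0,2,4,1,3], [2,0,2,4,1,3,0,0], [2,0,2,4,1,3,0,2,0,0,0,3,4], [2,0,2,4,1,3,0,2,0,2,4,1,3], [2,0,2,4,1,3,2,0,0,0,3,1,2,0,0,0,3,1], [2,0,2,4,1,3,2,0,0,0,3,1,2,0,0,0,3,4], [2,0,2,4,1,3,2,0,0,0,3,1,2,0,2,4,1,3], [2,0,2,4,1,3,2,0,0,0,3,4,0], [2,0,2,4,1,3,2,0,0,0,3,4,2,0,0,0,3,4], [2,0,2,4,1,3,2,0,2,4,1,3,0], [2,0,2,4,1,3,2,0,2,4,1,3,2,0,0,0,3,1], [2,0,2,4,1,3,2,0,2,4,1,3,2,0,0,0,3,4], [2,0,2,4,1,3,2,0,2,4,1,3,2,0,2,4,1,3], [0,2,0,0,0,3,1,0,2,0,0,0,3,4], [0,2,0,0,0,3,1,0,2,0,2,4,1,3]],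
  [[0,2,0,0,0,3,1,2,0,0,0,3,1,2,0,0,0,3,1], [0,2,0,0,0,3,1,2,0,0,0,3,1,2,0,0,0,3,4], [0,2,0,0,0,3,1,2,0,0,0,3,4,0], [0,2,0,0,0,3,1,2,0,0,0,3,4,2,0,0,0,3,1], [0,2,0,0,0,3,1,2,0,0,0,3,4,2,0,2,4,1,3], [0,2,0,0,0,3,4,0,2,0,0,0,3,4], [0,2,0,0,0,3,4,0,2,0,2,4,1,3], [0,2,0,0,0,3,4,2,0,0,0,3,1,2,0,0,0,3,4], [0,2,0,0,0,3,4,2,0,0,0,3,1,2,0,2,4,1,3], [0,2,0,0,0,3,4,2,0,0,0,3,4,0], [0,2,0,0,0,3,4,2,0,0,0,3,4,2,0,0,0,3,4], [0,2,0,0,0,3,4,2,0,0,0,3,4,2,0,2,4,1,3], [0,2,0,0,0,3,4,2,0,2,4,1,3,0], [0,2,0,0,0,3,4,2,0,2,4,1,3,2,0,0,0,3,1], [0,2,0,0,0,3,4,2,0,2,4,1,3,2,0,0,0,3,4], [0,2,0,2,4,1,3,0,0]],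
  [[0,2,0,2,4,1,3,0,2,0,0,0,3,1], [0,2,0,2,4,1,3,0,2,0,0,0,3,4], [0,2,0,2,4,1,3,0,2,0,2,4,1,3], [0,2,0,2,4,1,3,2,0,0,0,3,1,0], [0,2,0,2,4,1,3,2,0,0,0,3,1,2,0,0,0,3,1], [0,2,0,2,4,1,3,2,0,0,0,3,1,2,0,0,0,3,4], [0,2,0,2,4,1,3,2,0,0,0,3,1,2,0,2,4,1,3], [0,2,0,2,4,1,3,2,0,0,0,3,4,0], [0,2,0,2,4,1,3,2,0,0,0,3,4,2,0,0,0,3,1], [0,2,0,2,4,1,3,2,0,0,0,3,4,2,0,2,4,1,3], [0,2,0,2,4,1,3,2,0,2,4,1,3,0], [0,2,0,2,4,1,3,2,0,2,4,1,3,2,0,0,0,3,1], [0,2,0,2,4,1,3,2,0,2,4,1,3,2,0,0,0,3,4], [0,2,0,2,4,1,3,2,0,2,4,1,3,2,0,2,4,1,3], [2,0,0,0,3,1,2,0,0,0,3,1,0,0], [2,0,0,0,3,1,2,0,0,0,3,1,0,2,0,0,0,3,4]],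
  [[2,0,0,0,3,1,2,0,0,0,3,1,0,2,0,2,4,1,3], [2,0,0,0,3,1,2,0,0,0,3,1,2,0,0,0,3,1,2,0,0,0,3,1], [2,0,0,0,3,1,2,0,0,0,3,1,2,0,0,0,3,1,2,0,0,0,3,4], [2,0,0,0,3,1,2,0,0,0,3,1,2,0,0,0,3,1,2,0,2,4,1,3], [2,0,0,0,3,1,2,0,0,0,3,1,2,0,0,0,3,4,2,0,0,0,3,4], [2,0,0,0,3,1,2,0,0,0,3,1,2,0,0,0,3,4,2,0,2,4,1,3], [2,0,0,0,3,1,2,0,0,0,3,1,2,0,2,4,1,3,0], [2,0,0,0,3,1,2,0,0,0,3,1,2,0,2,4,1,3,2,0,0,0,3,4], [2,0,0,0,3,1,2,0,0,0,3,1,2,0,2,4,1,3,2,0,2,4,1,3], [2,0,0,0,3,1,2,0,0,0,3,4,0,0], [2,0,0,0,3,1,2,0,0,0,3,4,0,2,0,0,0,3,4], [2,0,0,0,3,1,2,0,0,0,3,4,0,2,0,2,4,1,3], [2,0,0,0,3,1,2,0,0,0,3,4,2,0,0,0,3,1,0], [2,0,0,0,3,1,2,0,0,0,3,4,2,0,0,0,3,1,2,0,0,0,3,1],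 [2,0,0,0,3,1,2,0,0,0,3,4,2,0,0,0,3,1,2,0,2,4,1,3], [2,0,0,0,3,1,2,0,0,0,3,4,2,0,0,0,3,4,2,0,0,0,3,4]],
  [[2,0,0,0,3,1,2,0,0,0,3,4,2,0,0,0,3,4,2,0,2,4,1,3], [2,0,0,0,3,1,2,0,0,0,3,4,2,0,2,4,1,3,0], [2,0,0,0,3,1,2,0,0,0,3,4,2,0,2,4,1,3,2,0,0,0,3,1], [2,0,0,0,3,1,2,0,0,0,3,4,2,0,2,4,1,3,2,0,0,0,3,4], [2,0,0,0,3,1,2,0,2,4,1,3,0,0], [2,0,0,0,3,1,2,0,2,4,1,3,0,2,0,0,0,3,4], [2,0,0,0,3,1,2,0,2,4,1,3,0,2,0,2,4,1,3], [2,0,0,0,3,1,2,0,2,4,1,3,2,0,0,0,3,4,0], [2,0,0,0,3,1,2,0,2,4,1,3,2,0,0,0,3,4,2,0,0,0,3,1], [2,0,0,0,3,1,2,0,2,4,1,3,2,0,0,0,3,4,2,0,0,0,3,4], [2,0,0,0,3,1,2,0,2,4,1,3,2,0,0,0,3,4,2,0,2,4,1,3], [2,0,0,0,3,1,2,0,2,4,1,3,2,0,2,4,1,3,2,0,0,0,3,1],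 [2,0,0,0,3,1,2,0,2,4,1,3,2,0,2,4,1,3,2,0,0,0,3,4], [2,0,0,0,3,4,0,2,0,0,0,3,1,2,0,0,0,3,4], [2,0,0,0,3,4,0,2,0,0,0,3,4,2,0,0,0,3,1], [2,0,0,0,3,4,0,2,0,0,0,3,4,2,0,2,4,1,3]],
  [[2,0,0,0,3,4,0,2,0,2,4,1,3,0], [2,0,0,0,3,4,0,2,0,2,4,1,3,2,0,0,0,3,1], [2,0,0,0,3,4,0,2,0,2,4,1,3,2,0,0,0,3,4], [2,0,0,0,3,4,2,0,0,0,3,1,2,0,0,0,3,1,0], [2,0,0,0,3,4,2,0,0,0,3,1,2,0,0,0,3,1,2,0,0,0,3,1], [2,0,0,0,3,4,2,0,0,0,3,1,2,0,0,0,3,4,0], [2,0,0,0,3,4,2,0,0,0,3,1,2,0,0,0,3,4,2,0,0,0,3,1], [2,0,0,0,3,4,2,0,0,0,3,1,2,0,0,0,3,4,2,0,0,0,3,4], [2,0,0,0,3,4,2,0,0,0,3,1,2,0,0,0,3,4,2,0,2,4,1,3], [2,0,0,0,3,4,2,0,0,0,3,1,2,0,2,4,1,3,0], [2,0,0,0,3,4,2,0,0,0,3,1,2,0,2,4,1,3,2,0,2,4,1,3],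 [2,0,0,0,3,4,2,0,2,4,1,3,0,0], [2,0,0,0,3,4,2,0,2,4,1,3,0,2,0,2,4,1,3], [2,0,0,0,3,4,2,0,2,4,1,3,2,0,0,0,3,1,2,0,0,0,3,1], [2,0,0,0,3,4,2,0,2,4,1,3,2,0,0,0,3,1,2,0,0,0,3,4], [2,0,0,0,3,4,2,0,2,4,1,3,2,0,0,0,3,1,2,0,2,4,1,3]],
  [[2,0,0,0,3,4,2,0,2,4,1,3,2,0,0,0,3,4,0], [2,0,0,0,3,4,2,0,2,4,1,3,2,0,0,0,3,4,2,0,0,0,3,4], [2,0,0,0,3,4,2,0,2,4,1,3,2,0,2,4,1,3,0], [2,0,0,0,3,4,2,0,2,4,1,3,2,0,2,4,1,3,2,0,0,0,3,1], [2,0,0,0,3,4,2,0,2,4,1,3,2,0,2,4,1,3,2,0,0,0,3,4], [2,0,2,4,1,3,0,0,2,0,0,0,3,1], [2,0,2,4,1,3,0,2,0,0,0,3,4,0], [2,0,2,4,1,3,0,2,0,0,0,3,4,2,0,0,0,3,1], [2,0,2,4,1,3,0,2,0,0,0,3,4,2,0,2,4,1,3], [2,0,2,4,1,3,0,2,0,2,4,1,3,0],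 [2,0,2,4,1,3,0,2,0,2,4,1,3,2,0,0,0,3,1], [2,0,2,4,1,3,0,2,0,2,4,1,3,2,0,0,0,3,4], [2,0,2,4,1,3,0,2,0,2,4,1,3,2,0,2,4,1,3], [2,0,2,4,1,3,2,0,0,0,3,1,2,0,0,0,3,1,0], [2,0,2,4,1,3,2,0,0,0,3,1,2,0,0,0,3,1,2,0,0,0,3,1], [2,0,2,4,1,3,2,0,0,0,3,1,2,0,0,0,3,1,2,0,0,0,3,4]],
  [[2,0,2,4,1,3,2,0,0,0,3,1,2,0,0,0,3,1,2,0,2,4,1,3], [2,0,2,4,1,3,2,0,0,0,3,1,2,0,0,0,3,4,0], [2,0,2,4,1,3,2,0,0,0,3,1,2,0,0,0,3,4,2,0,0,0,3,1], [2,0,2,4,1,3,2,0,0,0,3,1,2,0,0,0,3,4,2,0,0,0,3,4], [2,0,2,4,1,3,2,0,0,0,3,1,2,0,2,4,1,3,2,0,0,0,3,4], [2,0,2,4,1,3,2,0,0,0,3,1,2,0,2,4,1,3,2,0,2,4,1,3], [2,0,2,4,1,3,2,0,0,0,3,4,0,2,0,0,0,3,4], [2,0,2,4,1,3,2,0,0,0,3,4,0,2,0,2,4,1,3],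 [2,0,2,4,1,3,2,0,0,0,3,4,2,0,0,0,3,4,0], [2,0,2,4,1,3,2,0,0,0,3,4,2,0,0,0,3,4,2,0,0,0,3,1], [2,0,2,4,1,3,2,0,0,0,3,4,2,0,0,0,3,4,2,0,0,0,3,4], [2,0,2,4,1,3,2,0,0,0,3,4,2,0,0,0,3,4,2,0,2,4,1,3], [2,0,2,4,1,3,2,0,2,4,1,3,0,2,0,2,4,1,3], [2,0,2,4,1,3,2,0,2,4,1,3,2,0,0,0,3,1,2,0,0,0,3,4], [2,0,2,4,1,3,2,0,2,4,1,3,2,0,0,0,3,1,2,0,2,4,1,3], [2,0,2,4,1,3,2,0,2,4,1,3,2,0,0,0,3,4,0]],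
  [[2,0,2,4,1,3,2,0,2,4,1,3,2,0,0,0,3,4,2,0,0,0,3,4], [2,0,2,4,1,3,2,0,2,4,1,3,2,0,0,0,3,4,2,0,2,4,1,3], [2,0,2,4,1,3,2,0,2,4,1,3,2,0,2,4,1,3,0], [2,0,2,4,1,3,2,0,2,4,1,3,2,0,2,4,1,3,2,0,0,0,3,1], [0,2,0,0,0,3,1,0,2,0,0,0,3,4,0], [0,2,0,0,0,3,1,0,2,0,0,0,3,4,2,0,0,0,3,1], [0,2,0,0,0,3,1,0,2,0,0,0,3,4,2,0,2,4,1,3], [0,2,0,0,0,3,1,0,2,0,2,4,1,3,0], [0,2,0,0,0,3,1,0,2,0,2,4,1,3,2,0,0,0,3,1], [0,2,0,0,0,3,1,0,2,0,2,4,1,3,2,0,0,0,3,4], [0,2,0,0,0,3,1,0,2,0,2,4,1,3,2,0,2,4,1,3], [0,2,0,0,0,3,1,2,0,0,0,3,1,2,0,0,0,3,1,2,0,0,0,3,1], [0,2,0,0,0,3,1,2,0,0,0,3,1,2,0,0,0,3,1,2,0,0,0,3,4], [0,2,0,0,0,3,1,2,0,0,0,3,1,2,0,0,0,3,1,2,0,2,4,1,3],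 [0,2,0,0,0,3,1,2,0,0,0,3,1,2,0,0,0,3,4,0], [0,2,0,0,0,3,1,2,0,0,0,3,1,2,0,0,0,3,4,2,0,0,0,3,4]],
  [[0,2,0,0,0,3,1,2,0,0,0,3,1,2,0,0,0,3,4,2,0,2,4,1,3], [0,2,0,0,0,3,1,2,0,0,0,3,4,0,2,0,0,0,3,1], [0,2,0,0,0,3,1,2,0,0,0,3,4,0,2,0,2,4,1,3], [0,2,0,0,0,3,1,2,0,0,0,3,4,2,0,0,0,3,1,2,0,0,0,3,1], [0,2,0,0,0,3,1,2,0,0,0,3,4,2,0,2,4,1,3,2,0,0,0,3,4], [0,2,0,0,0,3,4,0,2,0,0,0,3,4,0], [0,2,0,0,0,3,4,0,2,0,0,0,3,4,2,0,2,4,1,3], [0,2,0,0,0,3,4,0,2,0,2,4,1,3,0], [0,2,0,0,0,3,4,0,2,0,2,4,1,3,2,0,0,0,3,1], [0,2,0,0,0,3,4,2,0,0,0,3,1,2,0,0,0,3,4,0], [0,2,0,0,0,3,4,2,0,0,0,3,1,2,0,0,0,3,4,2,0,2,4,1,3], [0,2,0,0,0,3,4,2,0,0,0,3,1,2,0,2,4,1,3,0],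 [0,2,0,0,0,3,4,2,0,0,0,3,1,2,0,2,4,1,3,2,0,0,0,3,1], [0,2,0,0,0,3,4,2,0,0,0,3,1,2,0,2,4,1,3,2,0,0,0,3,4], [0,2,0,0,0,3,4,2,0,0,0,3,1,2,0,2,4,1,3,2,0,2,4,1,3], [0,2,0,0,0,3,4,2,0,0,0,3,4,0,2,0,0,0,3,4]],
  [[0,2,0,0,0,3,4,2,0,0,0,3,4,2,0,0,0,3,4,0], [0,2,0,0,0,3,4,2,0,0,0,3,4,2,0,0,0,3,4,2,0,0,0,3,1], [0,2,0,0,0,3,4,2,0,0,0,3,4,2,0,0,0,3,4,2,0,2,4,1,3], [0,2,0,0,0,3,4,2,0,0,0,3,4,2,0,2,4,1,3,0], [0,2,0,0,0,3,4,2,0,0,0,3,4,2,0,2,4,1,3,2,0,0,0,3,1], [0,2,0,0,0,3,4,2,0,0,0,3,4,2,0,2,4,1,3,2,0,0,0,3,4], [0,2,0,0,0,3,4,2,0,0,0,3,4,2,0,2,4,1,3,2,0,2,4,1,3], [0,2,0,0,0,3,4,2,0,2,4,1,3,0,2,0,2,4,1,3], [0,2,0,0,0,3,4,2,0,2,4,1,3,2,0,0,0,3,1,2,0,0,0,3,1],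 [0,2,0,0,0,3,4,2,0,2,4,1,3,2,0,0,0,3,1,2,0,0,0,3,4], [0,2,0,2,4,1,3,0,0,2,0,0,0,3,4], [0,2,0,2,4,1,3,0,2,0,0,0,3,1,2,0,0,0,3,4], [0,2,0,2,4,1,3,0,2,0,0,0,3,1,2,0,2,4,1,3], [0,2,0,2,4,1,3,0,2,0,0,0,3,4,0], [0,2,0,2,4,1,3,0,2,0,0,0,3,4,2,0,0,0,3,4], [0,2,0,2,4,1,3,0,2,0,0,0,3,4,2,0,2,4,1,3]],
  [[0,2,0,2,4,1,3,0,2,0,2,4,1,3,2,0,2,4,1,3], [0,2,0,2,4,1,3,2,0,0,0,3,1,0,0], [0,2,0,2,4,1,3,2,0,0,0,3,1,0,2,0,0,0,3,1], [0,2,0,2,4,1,3,2,0,0,0,3,1,2,0,0,0,3,1,0], [0,2,0,2,4,1,3,2,0,0,0,3,1,2,0,0,0,3,1,2,0,0,0,3,4], [0,2,0,2,4,1,3,2,0,0,0,3,1,2,0,0,0,3,1,2,0,2,4,1,3], [0,2,0,2,4,1,3,2,0,0,0,3,1,2,0,0,0,3,4,0], [0,2,0,2,4,1,3,2,0,0,0,3,1,2,0,0,0,3,4,2,0,0,0,3,1],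 [0,2,0,2,4,1,3,2,0,0,0,3,1,2,0,0,0,3,4,2,0,0,0,3,4], [0,2,0,2,4,1,3,2,0,0,0,3,1,2,0,0,0,3,4,2,0,2,4,1,3], [0,2,0,2,4,1,3,2,0,0,0,3,1,2,0,2,4,1,3,0], [0,2,0,2,4,1,3,2,0,0,0,3,1,2,0,2,4,1,3,2,0,0,0,3,1], [0,2,0,2,4,1,3,2,0,0,0,3,1,2,0,2,4,1,3,2,0,2,4,1,3], [0,2,0,2,4,1,3,2,0,0,0,3,4,0,0], [0,2,0,2,4,1,3,2,0,0,0,3,4,0,2,0,0,0,3,1], [0,2,0,2,4,1,3,2,0,0,0,3,4,0,2,0,2,4,1,3]],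
  [[0,2,0,2,4,1,3,2,0,0,0,3,4,2,0,0,0,3,1,2,0,0,0,3,1], [0,2,0,2,4,1,3,2,0,0,0,3,4,2,0,2,4,1,3,0], [0,2,0,2,4,1,3,2,0,0,0,3,4,2,0,2,4,1,3,2,0,0,0,3,4], [0,2,0,2,4,1,3,2,0,0,0,3,4,2,0,2,4,1,3,2,0,2,4,1,3], [0,2,0,2,4,1,3,2,0,2,4,1,3,0,0], [0,2,0,2,4,1,3,2,0,2,4,1,3,0,2,0,2,4,1,3], [0,2,0,2,4,1,3,2,0,2,4,1,3,2,0,0,0,3,1,0], [0,2,0,2,4,1,3,2,0,2,4,1,3,2,0,0,0,3,1,2,0,2,4,1,3], [0,2,0,2,4,1,3,2,0,2,4,1,3,2,0,0,0,3,4,0], [0,2,0,2,4,1,3,2,0,2,4,1,3,2,0,0,0,3,4,2,0,2,4,1,3], [0,2,0,2,4,1,3,2,0,2,4,1,3,2,0,2,4,1,3,0], [0,2,0,2,4,1,3,2,0,2,4,1,3,2,0,2,4,1,3,2,0,0,0,3,4], [0,2,0,2,4,1,3,2,0,2,4,1,3,2,0,2,4,1,3,2,0,2,4,1,3], [2,0,0,0,3,1,2,0,0,0,3,1,0,2,0,0,0,3,4,0],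 [2,0,0,0,3,1,2,0,0,0,3,1,0,2,0,0,0,3,4,2,0,2,4,1,3], [2,0,0,0,3,1,2,0,0,0,3,1,2,0,0,0,3,1,2,0,0,0,3,1,2,0,0,0,3,4]],
  [[2,0,0,0,3,1,2,0,0,0,3,1,2,0,0,0,3,1,2,0,0,0,3,4,0], [2,0,0,0,3,1,2,0,0,0,3,1,2,0,0,0,3,1,2,0,0,0,3,4,2,0,2,4,1,3], [2,0,0,0,3,1,2,0,0,0,3,1,2,0,0,0,3,1,2,0,2,4,1,3,0], [2,0,0,0,3,1,2,0,0,0,3,1,2,0,0,0,3,1,2,0,2,4,1,3,2,0,0,0,3,1], [2,0,0,0,3,1,2,0,0,0,3,1,2,0,0,0,3,4,2,0,0,0,3,4,0], [2,0,0,0,3,1,2,0,0,0,3,1,2,0,0,0,3,4,2,0,0,0,3,4,2,0,0,0,3,4], [2,0,0,0,3,1,2,0,0,0,3,1,2,0,0,0,3,4,2,0,0,0,3,4,2,0,2,4,1,3], [2,0,0,0,3,1,2,0,0,0,3,1,2,0,0,0,3,4,2,0,2,4,1,3,0], [2,0,0,0,3,1,2,0,0,0,3,1,2,0,0,0,3,4,2,0,2,4,1,3,2,0,2,4,1,3],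 [2,0,0,0,3,1,2,0,0,0,3,1,2,0,2,4,1,3,0,2,0,0,0,3,1], [2,0,0,0,3,1,2,0,0,0,3,1,2,0,2,4,1,3,0,2,0,2,4,1,3], [2,0,0,0,3,1,2,0,0,0,3,1,2,0,2,4,1,3,2,0,0,0,3,4,0], [2,0,0,0,3,1,2,0,0,0,3,1,2,0,2,4,1,3,2,0,0,0,3,4,2,0,0,0,3,1], [2,0,0,0,3,1,2,0,0,0,3,1,2,0,2,4,1,3,2,0,0,0,3,4,2,0,2,4,1,3], [2,0,0,0,3,1,2,0,0,0,3,1,2,0,2,4,1,3,2,0,2,4,1,3,0], [2,0,0,0,3,1,2,0,0,0,3,1,2,0,2,4,1,3,2,0,2,4,1,3,2,0,0,0,3,1]],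
  [[2,0,0,0,3,1,2,0,0,0,3,1,2,0,2,4,1,3,2,0,2,4,1,3,2,0,2,4,1,3], [2,0,0,0,3,1,2,0,0,0,3,4,0,0,2,0,0,0,3,1], [2,0,0,0,3,1,2,0,0,0,3,4,0,2,0,0,0,3,4,0], [2,0,0,0,3,1,2,0,0,0,3,4,0,2,0,0,0,3,4,2,0,0,0,3,1], [2,0,0,0,3,1,2,0,0,0,3,4,0,2,0,2,4,1,3,2,0,0,0,3,4], [2,0,0,0,3,1,2,0,0,0,3,4,0,2,0,2,4,1,3,2,0,2,4,1,3], [2,0,0,0,3,1,2,0,0,0,3,4,2,0,0,0,3,1,0,2,0,0,0,3,1], [2,0,0,0,3,1,2,0,0,0,3,4,2,0,0,0,3,1,0,2,0,2,4,1,3], [2,0,0,0,3,1,2,0,0,0,3,4,2,0,0,0,3,1,2,0,0,0,3,1,2,0,0,0,3,4], [2,0,0,0,3,1,2,0,0,0,3,4,2,0,0,0,3,1,2,0,0,0,3,1,2,0,2,4,1,3], [2,0,0,0,3,1,2,0,0,0,3,4,2,0,0,0,3,1,2,0,2,4,1,3,0], [2,0,0,0,3,1,2,0,0,0,3,4,2,0,0,0,3,1,2,0,2,4,1,3,2,0,2,4,1,3],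 [2,0,0,0,3,1,2,0,0,0,3,4,2,0,0,0,3,4,2,0,0,0,3,4,2,0,0,0,3,1], [2,0,0,0,3,1,2,0,0,0,3,4,2,0,0,0,3,4,2,0,2,4,1,3,0], [2,0,0,0,3,1,2,0,0,0,3,4,2,0,0,0,3,4,2,0,2,4,1,3,2,0,2,4,1,3], [2,0,0,0,3,1,2,0,0,0,3,4,2,0,2,4,1,3,2,0,0,0,3,1,2,0,0,0,3,1]],
  [[2,0,0,0,3,1,2,0,0,0,3,4,2,0,2,4,1,3,2,0,0,0,3,4,0], [2,0,0,0,3,1,2,0,0,0,3,4,2,0,2,4,1,3,2,0,0,0,3,4,2,0,0,0,3,4], [2,0,0,0,3,1,2,0,2,4,1,3,0,2,0,0,0,3,4,2,0,2,4,1,3], [2,0,0,0,3,1,2,0,2,4,1,3,0,2,0,2,4,1,3,2,0,0,0,3,4], [2,0,0,0,3,1,2,0,2,4,1,3,0,2,0,2,4,1,3,2,0,2,4,1,3], [2,0,0,0,3,1,2,0,2,4,1,3,2,0,0,0,3,4,0,0], [2,0,0,0,3,1,2,0,2,4,1,3,2,0,0,0,3,4,0,2,0,2,4,1,3], [2,0,0,0,3,1,2,0,2,4,1,3,2,0,0,0,3,4,2,0,0,0,3,1,2,0,0,0,3,1],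 [2,0,0,0,3,1,2,0,2,4,1,3,2,0,0,0,3,4,2,0,0,0,3,1,2,0,2,4,1,3], [2,0,0,0,3,1,2,0,2,4,1,3,2,0,0,0,3,4,2,0,0,0,3,4,0], [2,0,0,0,3,1,2,0,2,4,1,3,2,0,0,0,3,4,2,0,0,0,3,4,2,0,0,0,3,1], [2,0,0,0,3,1,2,0,2,4,1,3,2,0,0,0,3,4,2,0,0,0,3,4,2,0,2,4,1,3], [2,0,0,0,3,1,2,0,2,4,1,3,2,0,0,0,3,4,2,0,2,4,1,3,0], [2,0,0,0,3,1,2,0,2,4,1,3,2,0,0,0,3,4,2,0,2,4,1,3,2,0,0,0,3,4], [2,0,0,0,3,1,2,0,2,4,1,3,2,0,0,0,3,4,2,0,2,4,1,3,2,0,2,4,1,3], [2,0,0,0,3,4,0,2,0,0,0,3,1,2,0,0,0,3,4,0]],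
  [[2,0,0,0,3,4,0,2,0,0,0,3,1,2,0,0,0,3,4,2,0,0,0,3,1], [2,0,0,0,3,4,0,2,0,0,0,3,4,2,0,2,4,1,3,0], [2,0,0,0,3,4,0,2,0,0,0,3,4,2,0,2,4,1,3,2,0,0,0,3,1], [2,0,0,0,3,4,0,2,0,2,4,1,3,0,2,0,2,4,1,3], [2,0,0,0,3,4,0,2,0,2,4,1,3,2,0,0,0,3,1,2,0,0,0,3,4], [2,0,0,0,3,4,0,2,0,2,4,1,3,2,0,0,0,3,4,2,0,0,0,3,1], [2,0,0,0,3,4,2,0,0,0,3,1,2,0,0,0,3,1,2,0,0,0,3,1,2,0,0,0,3,4], [2,0,0,0,3,4,2,0,0,0,3,1,2,0,0,0,3,4,0,2,0,0,0,3,4], [2,0,0,0,3,4,2,0,0,0,3,1,2,0,0,0,3,4,0,2,0,2,4,1,3], [2,0,0,0,3,4,2,0,0,0,3,1,2,0,0,0,3,4,2,0,0,0,3,1,2,0,0,0,3,1], [2,0,0,0,3,4,2,0,0,0,3,1,2,0,0,0,3,4,2,0,0,0,3,1,2,0,2,4,1,3], [2,0,0,0,3,4,2,0,0,0,3,1,2,0,0,0,3,4,2,0,0,0,3,4,2,0,2,4,1,3],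 [2,0,0,0,3,4,2,0,0,0,3,1,2,0,0,0,3,4,2,0,2,4,1,3,2,0,0,0,3,1], [2,0,0,0,3,4,2,0,2,4,1,3,0,0,2,0,0,0,3,1], [2,0,0,0,3,4,2,0,2,4,1,3,0,2,0,2,4,1,3,0], [2,0,0,0,3,4,2,0,2,4,1,3,0,2,0,2,4,1,3,2,0,0,0,3,1]],
  [[2,0,0,0,3,4,2,0,2,4,1,3,0,2,0,2,4,1,3,2,0,2,4,1,3], [2,0,0,0,3,4,2,0,2,4,1,3,2,0,0,0,3,1,2,0,0,0,3,1,2,0,0,0,3,4], [2,0,0,0,3,4,2,0,2,4,1,3,2,0,0,0,3,1,2,0,0,0,3,4,0], [2,0,0,0,3,4,2,0,2,4,1,3,2,0,0,0,3,1,2,0,0,0,3,4,2,0,0,0,3,1], [2,0,0,0,3,4,2,0,2,4,1,3,2,0,0,0,3,4,0,2,0,2,4,1,3], [2,0,0,0,3,4,2,0,2,4,1,3,2,0,0,0,3,4,2,0,0,0,3,4,0], [2,0,0,0,3,4,2,0,2,4,1,3,2,0,0,0,3,4,2,0,0,0,3,4,2,0,0,0,3,1], [2,0,0,0,3,4,2,0,2,4,1,3,2,0,2,4,1,3,2,0,0,0,3,1,2,0,0,0,3,4],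 [2,0,0,0,3,4,2,0,2,4,1,3,2,0,2,4,1,3,2,0,0,0,3,1,2,0,2,4,1,3], [2,0,0,0,3,4,2,0,2,4,1,3,2,0,2,4,1,3,2,0,0,0,3,4,0], [2,0,0,0,3,4,2,0,2,4,1,3,2,0,2,4,1,3,2,0,0,0,3,4,2,0,0,0,3,4], [2,0,0,0,3,4,2,0,2,4,1,3,2,0,2,4,1,3,2,0,0,0,3,4,2,0,2,4,1,3], [2,0,2,4,1,3,0,0,2,0,0,0,3,1,2,0,2,4,1,3], [2,0,2,4,1,3,0,2,0,0,0,3,4,2,0,0,0,3,1,2,0,0,0,3,1], [2,0,2,4,1,3,0,2,0,0,0,3,4,2,0,2,4,1,3,2,0,2,4,1,3], [2,0,2,4,1,3,0,2,0,2,4,1,3,2,0,0,0,3,1,0]],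
  [[2,0,2,4,1,3,0,2,0,2,4,1,3,2,0,0,0,3,1,2,0,0,0,3,1], [2,0,2,4,1,3,0,2,0,2,4,1,3,2,0,0,0,3,1,2,0,0,0,3,4], [2,0,2,4,1,3,0,2,0,2,4,1,3,2,0,0,0,3,1,2,0,2,4,1,3], [2,0,2,4,1,3,2,0,0,0,3,1,2,0,0,0,3,1,0,2,0,0,0,3,4], [2,0,2,4,1,3,2,0,0,0,3,1,2,0,0,0,3,1,0,2,0,2,4,1,3], [2,0,2,4,1,3,2,0,0,0,3,1,2,0,0,0,3,1,2,0,0,0,3,1,2,0,0,0,3,4], [2,0,2,4,1,3,2,0,0,0,3,1,2,0,0,0,3,1,2,0,0,0,3,4,0], [2,0,2,4,1,3,2,0,0,0,3,1,2,0,0,0,3,1,2,0,2,4,1,3,2,0,0,0,3,1], [2,0,2,4,1,3,2,0,0,0,3,1,2,0,0,0,3,1,2,0,2,4,1,3,2,0,2,4,1,3], [2,0,2,4,1,3,2,0,0,0,3,1,2,0,0,0,3,4,2,0,0,0,3,4,2,0,0,0,3,4], [2,0,2,4,1,3,2,0,0,0,3,1,2,0,0,0,3,4,2,0,0,0,3,4,2,0,2,4,1,3],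 [2,0,2,4,1,3,2,0,0,0,3,1,2,0,2,4,1,3,2,0,0,0,3,4,2,0,2,4,1,3], [2,0,2,4,1,3,2,0,0,0,3,1,2,0,2,4,1,3,2,0,2,4,1,3,2,0,0,0,3,4], [2,0,2,4,1,3,2,0,0,0,3,1,2,0,2,4,1,3,2,0,2,4,1,3,2,0,2,4,1,3], [2,0,2,4,1,3,2,0,0,0,3,4,0,2,0,2,4,1,3,0], [2,0,2,4,1,3,2,0,0,0,3,4,0,2,0,2,4,1,3,2,0,0,0,3,4]],
  [[2,0,2,4,1,3,2,0,0,0,3,4,0,2,0,2,4,1,3,2,0,2,4,1,3], [2,0,2,4,1,3,2,0,0,0,3,4,2,0,0,0,3,4,0,0], [2,0,2,4,1,3,2,0,0,0,3,4,2,0,0,0,3,4,0,2,0,0,0,3,4], [2,0,2,4,1,3,2,0,0,0,3,4,2,0,0,0,3,4,0,2,0,2,4,1,3], [2,0,2,4,1,3,2,0,0,0,3,4,2,0,0,0,3,4,2,0,0,0,3,1,2,0,0,0,3,1], [2,0,2,4,1,3,2,0,0,0,3,4,2,0,0,0,3,4,2,0,2,4,1,3,2,0,0,0,3,4], [2,0,2,4,1,3,2,0,0,0,3,4,2,0,0,0,3,4,2,0,2,4,1,3,2,0,2,4,1,3],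 [2,0,2,4,1,3,2,0,2,4,1,3,0,2,0,2,4,1,3,0], [2,0,2,4,1,3,2,0,2,4,1,3,0,2,0,2,4,1,3,2,0,0,0,3,1], [2,0,2,4,1,3,2,0,2,4,1,3,2,0,0,0,3,1,2,0,0,0,3,4,2,0,2,4,1,3], [2,0,2,4,1,3,2,0,2,4,1,3,2,0,0,0,3,1,2,0,2,4,1,3,2,0,2,4,1,3], [2,0,2,4,1,3,2,0,2,4,1,3,2,0,0,0,3,4,0,0], [2,0,2,4,1,3,2,0,2,4,1,3,2,0,0,0,3,4,0,2,0,2,4,1,3], [2,0,2,4,1,3,2,0,2,4,1,3,2,0,0,0,3,4,2,0,0,0,3,4,0], [2,0,2,4,1,3,2,0,2,4,1,3,2,0,0,0,3,4,2,0,0,0,3,4,2,0,2,4,1,3], [2,0,2,4,1,3,2,0,2,4,1,3,2,0,2,4,1,3,0,2,0,2,4,1,3]],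
  [[0,2,0,0,0,3,1,0,2,0,0,0,3,4,0,2,0,0,0,3,4], [0,2,0,0,0,3,1,0,2,0,0,0,3,4,2,0,2,4,1,3,0], [0,2,0,0,0,3,1,0,2,0,0,0,3,4,2,0,2,4,1,3,2,0,0,0,3,1], [0,2,0,0,0,3,1,0,2,0,2,4,1,3,0,2,0,2,4,1,3], [0,2,0,0,0,3,1,0,2,0,2,4,1,3,2,0,0,0,3,4,0], [0,2,0,0,0,3,1,0,2,0,2,4,1,3,2,0,0,0,3,4,2,0,0,0,3,1], [0,2,0,0,0,3,1,0,2,0,2,4,1,3,2,0,2,4,1,3,0], [0,2,0,0,0,3,1,0,2,0,2,4,1,3,2,0,2,4,1,3,2,0,0,0,3,1], [0,2,0,0,0,3,1,0,2,0,2,4,1,3,2,0,2,4,1,3,2,0,2,4,1,3], [0,2,0,0,0,3,1,2,0,0,0,3,1,2,0,0,0,3,1,2,0,0,0,3,4,2,0,0,0,3,1], [0,2,0,0,0,3,1,2,0,0,0,3,1,2,0,0,0,3,1,2,0,0,0,3,4,2,0,2,4,1,3], [0,2,0,0,0,3,1,2,0,0,0,3,1,2,0,0,0,3,1,2,0,2,4,1,3,2,0,2,4,1,3],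 [0,2,0,0,0,3,1,2,0,0,0,3,1,2,0,0,0,3,4,0,2,0,0,0,3,4], [0,2,0,0,0,3,1,2,0,0,0,3,1,2,0,0,0,3,4,2,0,0,0,3,4,0], [0,2,0,0,0,3,1,2,0,0,0,3,1,2,0,0,0,3,4,2,0,2,4,1,3,0], [0,2,0,0,0,3,1,2,0,0,0,3,1,2,0,0,0,3,4,2,0,2,4,1,3,2,0,0,0,3,1]],
  [[0,2,0,0,0,3,1,2,0,0,0,3,4,0,2,0,2,4,1,3,2,0,0,0,3,4], [0,2,0,0,0,3,1,2,0,0,0,3,4,2,0,0,0,3,1,2,0,0,0,3,1,2,0,0,0,3,1], [0,2,0,0,0,3,1,2,0,0,0,3,4,2,0,2,4,1,3,2,0,0,0,3,4,0], [0,2,0,0,0,3,1,2,0,0,0,3,4,2,0,2,4,1,3,2,0,0,0,3,4,2,0,0,0,3,1], [0,2,0,0,0,3,4,0,2,0,0,0,3,4,2,0,2,4,1,3,2,0,2,4,1,3], [0,2,0,0,0,3,4,0,2,0,2,4,1,3,0,2,0,2,4,1,3], [0,2,0,0,0,3,4,0,2,0,2,4,1,3,2,0,0,0,3,1,2,0,0,0,3,4], [0,2,0,0,0,3,4,2,0,0,0,3,1,2,0,0,0,3,4,0,2,0,2,4,1,3],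 [0,2,0,0,0,3,4,2,0,0,0,3,1,2,0,0,0,3,4,2,0,2,4,1,3,0], [0,2,0,0,0,3,4,2,0,0,0,3,1,2,0,0,0,3,4,2,0,2,4,1,3,2,0,0,0,3,1], [0,2,0,0,0,3,4,2,0,0,0,3,1,2,0,2,4,1,3,0,0], [0,2,0,0,0,3,4,2,0,0,0,3,1,2,0,2,4,1,3,2,0,0,0,3,1,2,0,0,0,3,1], [0,2,0,0,0,3,4,2,0,0,0,3,1,2,0,2,4,1,3,2,0,2,4,1,3,2,0,0,0,3,4], [0,2,0,0,0,3,4,2,0,0,0,3,4,0,2,0,0,0,3,4,2,0,0,0,3,4], [0,2,0,0,0,3,4,2,0,0,0,3,4,0,2,0,0,0,3,4,2,0,2,4,1,3], [0,2,0,0,0,3,4,2,0,0,0,3,4,2,0,0,0,3,4,2,0,0,0,3,1,2,0,0,0,3,4]],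
  [[0,2,0,0,0,3,4,2,0,0,0,3,4,2,0,2,4,1,3,2,0,0,0,3,4,2,0,0,0,3,1], [0,2,0,0,0,3,4,2,0,0,0,3,4,2,0,2,4,1,3,2,0,2,4,1,3,2,0,0,0,3,4], [0,2,0,0,0,3,4,2,0,2,4,1,3,0,2,0,2,4,1,3,0], [0,2,0,0,0,3,4,2,0,2,4,1,3,0,2,0,2,4,1,3,2,0,2,4,1,3], [0,2,0,0,0,3,4,2,0,2,4,1,3,2,0,0,0,3,1,2,0,0,0,3,1,2,0,0,0,3,4], [0,2,0,0,0,3,4,2,0,2,4,1,3,2,0,0,0,3,1,2,0,0,0,3,4,2,0,0,0,3,4], [0,2,0,0,0,3,4,2,0,2,4,1,3,2,0,0,0,3,1,2,0,0,0,3,4,2,0,2,4,1,3], [0,2,0,2,4,1,3,0,0,2,0,0,0,3,4,0], [0,2,0,2,4,1,3,0,0,2,0,0,0,3,4,2,0,2,4,1,3], [0,2,0,2,4,1,3,0,2,0,0,0,3,4,0,2,0,0,0,3,4], [0,2,0,2,4,1,3,0,2,0,0,0,3,4,2,0,2,4,1,3,2,0,0,0,3,1], [0,2,0,2,4,1,3,0,2,0,2,4,1,3,2,0,2,4,1,3,0],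 [0,2,0,2,4,1,3,0,2,0,2,4,1,3,2,0,2,4,1,3,2,0,0,0,3,1], [0,2,0,2,4,1,3,0,2,0,2,4,1,3,2,0,2,4,1,3,2,0,2,4,1,3], [0,2,0,2,4,1,3,2,0,0,0,3,1,0,0,2,0,2,4,1,3], [0,2,0,2,4,1,3,2,0,0,0,3,1,2,0,0,0,3,1,0,2,0,0,0,3,4]],
  [[0,2,0,2,4,1,3,2,0,0,0,3,1,2,0,0,0,3,1,0,2,0,2,4,1,3], [0,2,0,2,4,1,3,2,0,0,0,3,1,2,0,0,0,3,1,2,0,2,4,1,3,2,0,0,0,3,1], [0,2,0,2,4,1,3,2,0,0,0,3,1,2,0,0,0,3,4,0,0], [0,2,0,2,4,1,3,2,0,0,0,3,1,2,0,2,4,1,3,0,2,0,0,0,3,1], [0,2,0,2,4,1,3,2,0,0,0,3,4,0,0,2,0,0,0,3,4], [0,2,0,2,4,1,3,2,0,0,0,3,4,0,2,0,2,4,1,3,0], [0,2,0,2,4,1,3,2,0,0,0,3,4,0,2,0,2,4,1,3,2,0,0,0,3,4], [0,2,0,2,4,1,3,2,0,0,0,3,4,2,0,2,4,1,3,2,0,0,0,3,4,0],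 [0,2,0,2,4,1,3,2,0,0,0,3,4,2,0,2,4,1,3,2,0,2,4,1,3,2,0,2,4,1,3], [0,2,0,2,4,1,3,2,0,2,4,1,3,0,2,0,2,4,1,3,0], [0,2,0,2,4,1,3,2,0,2,4,1,3,0,2,0,2,4,1,3,2,0,0,0,3,1], [0,2,0,2,4,1,3,2,0,2,4,1,3,2,0,0,0,3,1,2,0,2,4,1,3,2,0,0,0,3,4], [0,2,0,2,4,1,3,2,0,2,4,1,3,2,0,0,0,3,4,0,2,0,2,4,1,3], [0,2,0,2,4,1,3,2,0,2,4,1,3,2,0,0,0,3,4,2,0,2,4,1,3,2,0,0,0,3,1], [0,2,0,2,4,1,3,2,0,2,4,1,3,2,0,2,4,1,3,0,2,0,0,0,3,4], [0,2,0,2,4,1,3,2,0,2,4,1,3,2,0,2,4,1,3,2,0,2,4,1,3,2,0,0,0,3,1]],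
  [[0,2,0,2,4,1,3,2,0,2,4,1,3,2,0,2,4,1,3,2,0,2,4,1,3,2,0,0,0,3,4], [2,0,0,0,3,1,2,0,0,0,3,1,0,2,0,0,0,3,4,0,0], [2,0,0,0,3,1,2,0,0,0,3,1,0,2,0,0,0,3,4,0,2,0,0,0,3,4], [2,0,0,0,3,1,2,0,0,0,3,1,0,2,0,0,0,3,4,2,0,2,4,1,3,0], [2,0,0,0,3,1,2,0,0,0,3,1,0,2,0,0,0,3,4,2,0,2,4,1,3,2,0,0,0,3,1], [2,0,0,0,3,1,2,0,0,0,3,1,2,0,0,0,3,1,2,0,0,0,3,1,2,0,0,0,3,4,0], [2,0,0,0,3,1,2,0,0,0,3,1,2,0,0,0,3,1,2,0,0,0,3,4,2,0,2,4,1,3,0], [2,0,0,0,3,1,2,0,0,0,3,1,2,0,0,0,3,1,2,0,0,0,3,4,2,0,2,4,1,3,2,0,2,4,1,3], [2,0,0,0,3,1,2,0,0,0,3,1,2,0,0,0,3,1,2,0,2,4,1,3,0,2,0,2,4,1,3], [2,0,0,0,3,1,2,0,0,0,3,1,2,0,0,0,3,1,2,0,2,4,1,3,2,0,0,0,3,1,2,0,0,0,3,1],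 [2,0,0,0,3,1,2,0,0,0,3,1,2,0,0,0,3,4,2,0,0,0,3,4,2,0,0,0,3,4,2,0,2,4,1,3], [2,0,0,0,3,1,2,0,0,0,3,1,2,0,0,0,3,4,2,0,2,4,1,3,2,0,2,4,1,3,2,0,2,4,1,3], [2,0,0,0,3,1,2,0,0,0,3,1,2,0,2,4,1,3,0,2,0,2,4,1,3,0], [2,0,0,0,3,1,2,0,0,0,3,1,2,0,2,4,1,3,2,0,2,4,1,3,2,0,2,4,1,3,2,0,2,4,1,3], [2,0,0,0,3,1,2,0,0,0,3,4,0,0,2,0,0,0,3,1,2,0,0,0,3,4], [2,0,0,0,3,1,2,0,0,0,3,4,0,2,0,2,4,1,3,2,0,0,0,3,4,2,0,2,4,1,3]],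
  [[2,0,0,0,3,1,2,0,0,0,3,4,0,2,0,2,4,1,3,2,0,2,4,1,3,2,0,2,4,1,3], [2,0,0,0,3,1,2,0,0,0,3,4,2,0,0,0,3,1,0,2,0,2,4,1,3,2,0,0,0,3,4], [2,0,0,0,3,1,2,0,0,0,3,4,2,0,0,0,3,1,2,0,0,0,3,1,2,0,0,0,3,4,2,0,0,0,3,1], [2,0,0,0,3,1,2,0,0,0,3,4,2,0,0,0,3,1,2,0,2,4,1,3,0,2,0,0,0,3,4], [2,0,0,0,3,1,2,0,0,0,3,4,2,0,0,0,3,1,2,0,2,4,1,3,2,0,2,4,1,3,0], [2,0,0,0,3,1,2,0,0,0,3,4,2,0,0,0,3,1,2,0,2,4,1,3,2,0,2,4,1,3,2,0,2,4,1,3], [2,0,0,0,3,1,2,0,2,4,1,3,0,2,0,2,4,1,3,2,0,2,4,1,3,2,0,0,0,3,4], [2,0,0,0,3,1,2,0,2,4,1,3,0,2,0,2,4,1,3,2,0,2,4,1,3,2,0,2,4,1,3], [2,0,0,0,3,1,2,0,2,4,1,3,2,0,0,0,3,4,0,2,0,2,4,1,3,0], [2,0,0,0,3,1,2,0,2,4,1,3,2,0,0,0,3,4,0,2,0,2,4,1,3,2,0,0,0,3,1],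 [2,0,0,0,3,1,2,0,2,4,1,3,2,0,0,0,3,4,2,0,0,0,3,1,2,0,2,4,1,3,2,0,0,0,3,4], [2,0,0,0,3,1,2,0,2,4,1,3,2,0,0,0,3,4,2,0,0,0,3,4,0,2,0,2,4,1,3], [2,0,0,0,3,1,2,0,2,4,1,3,2,0,0,0,3,4,2,0,0,0,3,4,2,0,0,0,3,1,2,0,0,0,3,4], [2,0,0,0,3,1,2,0,2,4,1,3,2,0,0,0,3,4,2,0,2,4,1,3,2,0,2,4,1,3,2,0,0,0,3,1], [2,0,0,0,3,4,0,2,0,0,0,3,4,2,0,2,4,1,3,2,0,0,0,3,1,2,0,0,0,3,1], [2,0,0,0,3,4,2,0,0,0,3,1,2,0,0,0,3,1,2,0,0,0,3,1,2,0,0,0,3,4,2,0,2,4,1,3]],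
  [[2,0,0,0,3,4,2,0,2,4,1,3,2,0,0,0,3,1,2,0,0,0,3,1,2,0,0,0,3,4,0], [2,0,0,0,3,4,2,0,2,4,1,3,2,0,0,0,3,4,0,2,0,2,4,1,3,0], [2,0,0,0,3,4,2,0,2,4,1,3,2,0,2,4,1,3,2,0,0,0,3,4,2,0,0,0,3,4,0], [2,0,0,0,3,4,2,0,2,4,1,3,2,0,2,4,1,3,2,0,0,0,3,4,2,0,0,0,3,4,2,0,2,4,1,3], [2,0,2,4,1,3,0,2,0,2,4,1,3,2,0,0,0,3,1,2,0,0,0,3,1,0], [2,0,2,4,1,3,2,0,0,0,3,1,2,0,0,0,3,1,0,2,0,0,0,3,4,0], [2,0,2,4,1,3,2,0,0,0,3,1,2,0,0,0,3,4,2,0,0,0,3,4,2,0,0,0,3,4,0], [2,0,2,4,1,3,2,0,0,0,3,1,2,0,2,4,1,3,2,0,2,4,1,3,2,0,2,4,1,3,2,0,2,4,1,3], [2,0,2,4,1,3,2,0,2,4,1,3,2,0,0,0,3,4,0,2,0,2,4,1,3,0], [2,0,2,4,1,3,2,0,2,4,1,3,2,0,0,0,3,4,0,2,0,2,4,1,3,2,0,0,0,3,1],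 [2,0,2,4,1,3,2,0,2,4,1,3,2,0,0,0,3,4,2,0,0,0,3,4,2,0,2,4,1,3,2,0,0,0,3,1], [0,2,0,0,0,3,1,0,2,0,2,4,1,3,2,0,2,4,1,3,0,0], [0,2,0,0,0,3,1,2,0,0,0,3,1,2,0,0,0,3,4,2,0,2,4,1,3,2,0,0,0,3,1,2,0,0,0,3,1], [0,2,0,0,0,3,4,0,2,0,0,0,3,4,2,0,2,4,1,3,2,0,2,4,1,3,2,0,0,0,3,4], [0,2,0,0,0,3,4,0,2,0,2,4,1,3,2,0,0,0,3,1,2,0,0,0,3,4,2,0,0,0,3,4], [2,0,0,0,3,1,2,0,0,0,3,1,2,0,0,0,3,1,2,0,2,4,1,3,0,2,0,2,4,1,3,2,0,0,0,3,4]]]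

/-- Words fixing the point 122 and moving the point 136. -/
def moveOneB : List (List (List ℕ)) := [
  [[], [0,0,0,2,1,1,1,3], [2,0,0,0,3,4,2,0,0,0,3,4], [2,0,0,0,3,1,0,4,2,1,1,1,3], [2,0,2,4,1,3,0,2,0,0,0,3,1,2,0,4,3,1,3], [2,0,0,0,3,4,0,0,0,2,1,1,1,3,4,2,1,1,1,3], [2,0,0,0,3,4,2,0,2,4,1,3,0,0,0,2,0,4,3,1,3], [2,0,2,4,1,3,0,0,0,2,0,4,3,1,3,4,2,1,1,1,3], [0,2,0,2,4,1,3,2,0,0,0,3,4,0,0,2,0,2,4,1,3,1], [0,2,0,0,0,3,1,2,0,2,4,1,3,4,2,1,1,1,3,2,0,4,3,1,3], [2,0,2,4,1,3,2,0,0,0,3,4,2,0,2,4,1,3,4,2,1,1,1,3,1], [0,2,0,0,0,3,4,2,0,0,0,3,4,2,0,0,0,3,1,4,2,1,1,1,3], [0,2,0,0,0,3,4,2,0,0,0,3,1,2,0,0,0,3,1,1,4,2,1,1,1,3,1], [2,0,0,0,3,4,0,2,0,0,0,3,1,0,4,2,1,1,1,3,4,2,1,1,1,3,1],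 [0,2,0,2,4,1,3,0,2,0,2,4,1,3,0,2,0,4,3,1,3,1,2,0,4,3,1,3], [2,0,0,0,3,1,2,0,2,4,1,3,2,0,2,4,1,3,2,0,2,4,1,3,0,2,1,1,1,3]],
  [[2,0,2,4,1,3,2,0,0,0,3,1,0,4,2,1,1,1,3,2,0,4,3,1,3,4,2,1,1,1,3], [2,0,0,0,3,1,2,0,0,0,3,1,2,0,0,0,3,4,0,2,0,4,3,1,3,0,2,1,1,1,3], [2,0,2,4,1,3,2,0,0,0,3,4,0,2,0,0,0,3,1,4,2,1,1,1,3,2,0,4,3,1,3], [2,0,0,0,3,1,2,0,0,0,3,4,2,0,0,0,3,1,0,2,0,2,4,1,3,2,0,2,4,1,3], [0,2,0,0,0,3,1,2,0,0,0,3,1,2,0,2,4,1,3,1,2,0,4,3,1,3,2,0,4,3,1,3], [2,0,2,4,1,3,0,2,0,0,0,3,4,2,0,0,0,3,4,1,2,0,4,3,1,3,4,2,1,1,1,3], [2,0,0,0,3,4,2,0,0,0,3,1,2,0,0,0,3,1,0,2,0,2,4,1,3,1,4,2,1,1,1,3,1], [2,0,0,0,3,1,2,0,2,4,1,3,2,0,0,0,3,1,4,2,1,1,1,3,0,2,1,1,1,3,0,2,1,1,1,3],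 [2,0,0,0,3,4,0,2,0,0,0,3,1,2,0,2,4,1,3,4,2,1,1,1,3,2,0,4,3,1,3,4,2,1,1,1,3], [2,0,0,0,3,4,2,0,2,4,1,3,0,2,0,0,0,3,4,2,0,4,3,1,3,2,0,4,3,1,3,2,0,4,3,1,3], [2,0,0,0,3,1,2,0,2,4,1,3,2,0,2,4,1,3,0,4,2,1,1,1,3,1,2,0,4,3,1,3,0,2,1,1,1,3], [2,0,0,0,3,4,2,0,0,0,3,1,2,0,0,0,3,1,2,0,0,0,3,4,1,1,2,0,4,3,1,3,0,2,1,1,1,3], [2,0,2,4,1,3,2,0,0,0,3,1,2,0,0,0,3,4,2,0,2,4,1,3,1,1,0,2,1,1,1,3,0,2,1,1,1,3], [0,2,0,0,0,3,1,2,0,0,0,3,4,0,2,0,0,0,3,4,2,0,4,3,1,3,2,0,4,3,1,3,4,2,1,1,1,3], [2,0,2,4,1,3,2,0,0,0,3,1,2,0,2,4,1,3,0,2,0,4,3,1,3,0,2,1,1,1,3,4,2,1,1,1,3,0,2,1,1,1,3], [2,0,0,0,3,1,2,0,0,0,3,1,2,0,0,0,3,1,2,0,2,4,1,3,0,2,0,0,0,3,4,2,0,4,3,1,3,4,2,1,1,1,3,1]]]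

/-- Words moving the point 124. -/
def moveTwoA : List (List (List ℕ)) := [
  [[], [4], [0,2,4,1,1,3,1,3,4], [0,2,4,1,1,3,1,4,3], [0,2,4,1,4,0,2,4,2], [0,3,0,4,1,4,2,1,2], [1,1,2,1,2,4,1,1,3], [1,1,2,4,1,1,3,1,3], [1,2,4,1,4,3,1,1,2], [1,4,0,4,1,2,4,3,4], [4,0,2,4,1,1,3,1,3,4], [4,0,2,4,1,1,3,1,4,3], [4,0,2,4,1,4,0,2,4,2], [4,0,3,0,4,1,4,2,1,2], [4,1,1,2,1,2,4,1,1,3], [4,1,1,2,4,1,1,3,1,3]],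
  [[4,1,2,4,1,4,3,1,1,2], [4,1,4,0,4,1,2,4,3,4], [0,2,4,1,1,3,1,3,4,0,2,4,1,1,3,1,3,4], [0,2,4,1,1,3,1,3,4,0,2,4,1,1,3,1,4,3], [0,2,4,1,1,3,1,3,4,0,2,4,1,4,0,2,4,2], [0,2,4,1,1,3,1,3,4,0,3,0,4,1,4,2,1,2], [0,2,4,1,1,3,1,3,4,0,4,2,0,0,0,3,4,1], [0,2,4,1,1,3,1,3,4,1,1,2,4,1,1,3,1,3], [0,2,4,1,1,3,1,3,4,1,2,4,1,4,3,1,1,2], [0,2,4,1,1,3,1,3,4,1,4,0,4,1,2,4,3,4], [0,2,4,1,1,3,1,4,3,0,2,4,1,1,3,1,3,4], [0,2,4,1,1,3,1,4,3,0,2,4,1,4,0,2,4,2], [0,2,4,1,1,3,1,4,3,0,3,0,4,1,4,2,1,2], [0,2,4,1,1,3,1,4,3,0,4,2,0,0,0,3,4,1], [0,2,4,1,1,3,1,4,3,1,1,2,1,2,4,1,1,3], [0,2,4,1,1,3,1,4,3,1,1,2,4,1,1,3,1,3]],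
  [[0,2,4,1,1,3,1,4,3,1,2,4,1,4,3,1,1,2], [0,2,4,1,1,3,1,4,3,1,4,0,4,1,2,4,3,4], [0,2,4,1,4,0,2,4,2,0,2,4,1,1,3,1,3,4], [0,2,4,1,4,0,2,4,2,0,2,4,1,1,3,1,4,3], [0,2,4,1,4,0,2,4,2,0,2,4,1,4,0,2,4,2], [0,2,4,1,4,0,2,4,2,0,3,0,4,1,4,2,1,2], [0,2,4,1,4,0,2,4,2,0,4,2,0,0,0,3,4,1], [0,2,4,1,4,0,2,4,2,1,1,2,1,2,4,1,1,3], [0,2,4,1,4,0,2,4,2,1,1,2,4,1,1,3,1,3], [0,2,4,1,4,0,2,4,2,1,2,4,1,4,3,1,1,2], [0,2,4,1,4,0,2,4,2,1,4,0,4,1,2,4,3,4], [0,3,0,4,1,4,2,1,2,0,2,4,1,1,3,1,3,4], [0,3,0,4,1,4,2,1,2,0,2,4,1,1,3,1,4,3], [0,3,0,4,1,4,2,1,2,0,2,4,1,4,0,2,4,2], [0,3,0,4,1,4,2,1,2,0,3,0,4,1,4,2,1,2], [0,3,0,4,1,4,2,1,2,0,4,2,0,0,0,3,4,1]],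
  [[0,3,0,4,1,4,2,1,2,1,1,2,4,1,1,3,1,3], [0,3,0,4,1,4,2,1,2,1,4,0,4,1,2,4,3,4], [1,1,2,1,2,4,1,1,3,0,2,4,1,1,3,1,3,4], [1,1,2,1,2,4,1,1,3,0,2,4,1,1,3,1,4,3], [1,1,2,1,2,4,1,1,3,0,2,4,1,4,0,2,4,2], [1,1,2,1,2,4,1,1,3,0,3,0,4,1,4,2,1,2], [1,1,2,1,2,4,1,1,3,0,4,2,0,0,0,3,4,1], [1,1,2,1,2,4,1,1,3,1,1,2,1,2,4,1,1,3], [1,1,2,1,2,4,1,1,3,1,1,2,4,1,1,3,1,3], [1,1,2,1,2,4,1,1,3,1,2,4,1,4,3,1,1,2], [1,1,2,1,2,4,1,1,3,1,4,0,4,1,2,4,3,4], [1,1,2,4,1,1,3,1,3,0,2,4,1,1,3,1,4,3], [1,1,2,4,1,1,3,1,3,0,2,4,1,4,0,2,4,2], [1,1,2,4,1,1,3,1,3,0,3,0,4,1,4,2,1,2], [1,1,2,4,1,1,3,1,3,0,4,2,0,0,0,3,4,1], [1,1,2,4,1,1,3,1,3,1,1,2,1,2,4,1,1,3]],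
  [[1,1,2,4,1,1,3,1,3,1,4,0,4,1,2,4,3,4], [1,2,4,1,4,3,1,1,2,0,2,4,1,1,3,1,4,3], [1,2,4,1,4,3,1,1,2,0,3,0,4,1,4,2,1,2], [1,2,4,1,4,3,1,1,2,1,1,2,1,2,4,1,1,3], [1,4,0,4,1,2,4,3,4,0,2,4,1,1,3,1,4,3], [1,4,0,4,1,2,4,3,4,0,2,4,1,4,0,2,4,2], [1,4,0,4,1,2,4,3,4,0,3,0,4,1,4,2,1,2], [1,4,0,4,1,2,4,3,4,0,4,2,0,0,0,3,4,1], [1,4,0,4,1,2,4,3,4,1,1,2,1,2,4,1,1,3], [1,4,0,4,1,2,4,3,4,1,1,2,4,1,1,3,1,3], [1,4,0,4,1,2,4,3,4,1,2,4,1,4,3,1,1,2], [1,4,0,4,1,2,4,3,4,1,4,0,4,1,2,4,3,4], [4,0,2,4,1,1,3,1,3,4,0,2,4,1,1,3,1,3,4], [4,0,2,4,1,1,3,1,3,4,0,2,4,1,1,3,1,4,3], [4,0,2,4,1,1,3,1,3,4,0,2,4,1,4,0,2,4,2], [4,0,2,4,1,1,3,1,3,4,0,4,2,0,0,0,3,4,1]],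
  [[4,0,2,4,1,1,3,1,3,4,1,1,2,4,1,1,3,1,3], [4,0,2,4,1,1,3,1,3,4,1,2,4,1,4,3,1,1,2], [4,0,2,4,1,1,3,1,3,4,1,4,0,4,1,2,4,3,4], [4,0,2,4,1,1,3,1,4,3,0,2,4,1,1,3,1,3,4], [4,0,2,4,1,1,3,1,4,3,0,2,4,1,4,0,2,4,2], [4,0,2,4,1,1,3,1,4,3,0,3,0,4,1,4,2,1,2], [4,0,2,4,1,1,3,1,4,3,0,4,2,0,0,0,3,4,1], [4,0,2,4,1,1,3,1,4,3,1,1,2,4,1,1,3,1,3], [4,0,2,4,1,4,0,2,4,2,0,2,4,1,1,3,1,4,3], [4,0,2,4,1,4,0,2,4,2,0,2,4,1,4,0,2,4,2], [4,0,2,4,1,4,0,2,4,2,0,3,0,4,1,4,2,1,2], [4,0,2,4,1,4,0,2,4,2,0,4,2,0,0,0,3,4,1], [4,0,2,4,1,4,0,2,4,2,1,1,2,1,2,4,1,1,3], [4,0,2,4,1,4,0,2,4,2,1,2,4,1,4,3,1,1,2], [4,0,2,4,1,4,0,2,4,2,1,4,0,4,1,2,4,3,4], [4,0,3,0,4,1,4,2,1,2,0,2,4,1,4,0,2,4,2]],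
  [[4,0,3,0,4,1,4,2,1,2,0,4,2,0,0,0,3,4,1], [4,0,3,0,4,1,4,2,1,2,1,4,0,4,1,2,4,3,4], [4,1,1,2,1,2,4,1,1,3,0,3,0,4,1,4,2,1,2], [4,1,1,2,1,2,4,1,1,3,0,4,2,0,0,0,3,4,1], [4,1,1,2,1,2,4,1,1,3,1,4,0,4,1,2,4,3,4], [4,1,1,2,4,1,1,3,1,3,0,2,4,1,1,3,1,4,3], [4,1,1,2,4,1,1,3,1,3,0,2,4,1,4,0,2,4,2], [4,1,1,2,4,1,1,3,1,3,0,3,0,4,1,4,2,1,2], [4,1,1,2,4,1,1,3,1,3,1,4,0,4,1,2,4,3,4], [4,1,2,4,1,4,3,1,1,2,0,2,4,1,1,3,1,4,3], [4,1,2,4,1,4,3,1,1,2,0,3,0,4,1,4,2,1,2], [4,1,2,4,1,4,3,1,1,2,1,1,2,1,2,4,1,1,3], [4,1,4,0,4,1,2,4,3,4,0,2,4,1,1,3,1,4,3], [4,1,4,0,4,1,2,4,3,4,0,2,4,1,4,0,2,4,2], [4,1,4,0,4,1,2,4,3,4,0,3,0,4,1,4,2,1,2], [4,1,4,0,4,1,2,4,3,4,0,4,2,0,0,0,3,4,1]],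
  [[4,1,4,0,4,1,2,4,3,4,1,1,2,1,2,4,1,1,3], [4,1,4,0,4,1,2,4,3,4,1,2,4,1,4,3,1,1,2], [0,2,4,1,1,3,1,3,4,0,2,4,1,1,3,1,3,4,0,2,4,1,1,3,1,3,4], [0,2,4,1,1,3,1,3,4,0,2,4,1,1,3,1,3,4,0,2,4,1,1,3,1,4,3], [0,2,4,1,1,3,1,3,4,0,2,4,1,1,3,1,3,4,0,2,4,1,4,0,2,4,2], [0,2,4,1,1,3,1,3,4,0,2,4,1,1,3,1,3,4,1,1,2,4,1,1,3,1,3], [0,2,4,1,1,3,1,3,4,0,2,4,1,1,3,1,3,4,1,2,4,1,4,3,1,1,2], [0,2,4,1,1,3,1,3,4,0,2,4,1,1,3,1,4,3,0,3,0,4,1,4,2,1,2], [0,2,4,1,1,3,1,3,4,0,2,4,1,4,0,2,4,2,0,2,4,1,1,3,1,3,4], [0,2,4,1,1,3,1,3,4,0,2,4,1,4,0,2,4,2,0,2,4,1,1,3,1,4,3], [0,2,4,1,1,3,1,3,4,0,2,4,1,4,0,2,4,2,0,2,4,1,4,0,2,4,2], [0,2,4,1,1,3,1,3,4,0,2,4,1,4,0,2,4,2,1,4,0,4,1,2,4,3,4],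 [0,2,4,1,1,3,1,3,4,0,3,0,4,1,4,2,1,2,0,2,4,1,1,3,1,3,4], [0,2,4,1,1,3,1,3,4,0,3,0,4,1,4,2,1,2,0,2,4,1,4,0,2,4,2], [0,2,4,1,1,3,1,3,4,0,3,0,4,1,4,2,1,2,1,2,4,1,4,3,1,1,2], [0,2,4,1,1,3,1,3,4,0,4,2,0,0,0,3,4,1,0,2,4,1,4,0,2,4,2]],
  [[0,2,4,1,1,3,1,3,4,0,4,2,0,0,0,3,4,1,0,3,0,4,1,4,2,1,2], [0,2,4,1,1,3,1,3,4,0,4,2,0,0,0,3,4,1,1,1,2,4,1,1,3,1,3], [0,2,4,1,1,3,1,3,4,0,4,2,0,0,0,3,4,1,1,2,4,1,4,3,1,1,2], [0,2,4,1,1,3,1,3,4,1,1,2,4,1,1,3,1,3,1,1,2,4,1,1,3,1,3], [0,2,4,1,1,3,1,3,4,1,1,2,4,1,1,3,1,3,1,4,0,4,1,2,4,3,4], [0,2,4,1,1,3,1,3,4,1,2,4,1,4,3,1,1,2,0,2,4,1,4,0,2,4,2], [0,2,4,1,1,3,1,3,4,1,2,4,1,4,3,1,1,2,1,4,0,4,1,2,4,3,4],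 [0,2,4,1,1,3,1,3,4,1,4,0,4,1,2,4,3,4,0,2,4,1,1,3,1,3,4], [0,2,4,1,1,3,1,3,4,1,4,0,4,1,2,4,3,4,0,2,4,1,1,3,1,4,3], [0,2,4,1,1,3,1,3,4,1,4,0,4,1,2,4,3,4,0,2,4,1,4,0,2,4,2], [0,2,4,1,1,3,1,3,4,1,4,0,4,1,2,4,3,4,1,1,2,4,1,1,3,1,3], [0,2,4,1,1,3,1,4,3,0,2,4,1,1,3,1,3,4,0,2,4,1,4,0,2,4,2], [0,2,4,1,1,3,1,4,3,0,2,4,1,1,3,1,3,4,1,1,2,1,2,4,1,1,3], [0,2,4,1,1,3,1,4,3,0,2,4,1,4,0,2,4,2,0,2,4,1,1,3,1,3,4], [0,2,4,1,1,3,1,4,3,0,2,4,1,4,0,2,4,2,0,3,0,4,1,4,2,1,2], [0,2,4,1,1,3,1,4,3,0,2,4,1,4,0,2,4,2,0,4,2,0,0,0,3,4,1]],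
  [[0,2,4,1,1,3,1,4,3,0,2,4,1,4,0,2,4,2,1,1,2,1,2,4,1,1,3], [0,2,4,1,1,3,1,4,3,0,3,0,4,1,4,2,1,2,0,2,4,1,1,3,1,3,4], [0,2,4,1,1,3,1,4,3,0,3,0,4,1,4,2,1,2,1,2,4,1,4,3,1,1,2], [0,2,4,1,1,3,1,4,3,0,3,0,4,1,4,2,1,2,1,4,0,4,1,2,4,3,4], [0,2,4,1,1,3,1,4,3,0,4,2,0,0,0,3,4,1,0,2,4,1,1,3,1,4,3], [0,2,4,1,1,3,1,4,3,0,4,2,0,0,0,3,4,1,1,4,0,4,1,2,4,3,4], [0,2,4,1,1,3,1,4,3,1,1,2,1,2,4,1,1,3,0,2,4,1,1,3,1,3,4], [0,2,4,1,1,3,1,4,3,1,1,2,1,2,4,1,1,3,0,3,0,4,1,4,2,1,2], [0,2,4,1,1,3,1,4,3,1,1,2,1,2,4,1,1,3,1,1,2,4,1,1,3,1,3], [0,2,4,1,1,3,1,4,3,1,1,2,1,2,4,1,1,3,1,2,4,1,4,3,1,1,2], [0,2,4,1,1,3,1,4,3,1,1,2,1,2,4,1,1,3,1,4,0,4,1,2,4,3,4], [0,2,4,1,1,3,1,4,3,1,1,2,4,1,1,3,1,3,0,2,4,1,1,3,1,3,4],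 [0,2,4,1,1,3,1,4,3,1,1,2,4,1,1,3,1,3,1,1,2,1,2,4,1,1,3], [0,2,4,1,1,3,1,4,3,1,1,2,4,1,1,3,1,3,1,2,4,1,4,3,1,1,2], [0,2,4,1,1,3,1,4,3,1,2,4,1,4,3,1,1,2,0,2,4,1,1,3,1,3,4], [0,2,4,1,1,3,1,4,3,1,2,4,1,4,3,1,1,2,0,2,4,1,4,0,2,4,2]],
  [[0,2,4,1,1,3,1,4,3,1,4,0,4,1,2,4,3,4,0,2,4,1,4,0,2,4,2], [0,2,4,1,1,3,1,4,3,1,4,0,4,1,2,4,3,4,0,3,0,4,1,4,2,1,2], [0,2,4,1,1,3,1,4,3,1,4,0,4,1,2,4,3,4,1,2,4,1,4,3,1,1,2], [0,2,4,1,1,3,1,4,3,1,4,0,4,1,2,4,3,4,1,4,0,4,1,2,4,3,4], [0,2,4,1,4,0,2,4,2,0,2,4,1,1,3,1,3,4,0,2,4,1,1,3,1,3,4], [0,2,4,1,4,0,2,4,2,0,2,4,1,1,3,1,3,4,0,3,0,4,1,4,2,1,2], [0,2,4,1,4,0,2,4,2,0,2,4,1,1,3,1,3,4,0,4,2,0,0,0,3,4,1],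 [0,2,4,1,4,0,2,4,2,0,2,4,1,1,3,1,3,4,1,1,2,4,1,1,3,1,3], [0,2,4,1,4,0,2,4,2,0,2,4,1,1,3,1,3,4,1,2,4,1,4,3,1,1,2], [0,2,4,1,4,0,2,4,2,0,2,4,1,1,3,1,4,3,0,2,4,1,4,0,2,4,2], [0,2,4,1,4,0,2,4,2,0,2,4,1,1,3,1,4,3,1,1,2,1,2,4,1,1,3], [0,2,4,1,4,0,2,4,2,0,2,4,1,1,3,1,4,3,1,4,0,4,1,2,4,3,4], [0,2,4,1,4,0,2,4,2,0,2,4,1,4,0,2,4,2,0,2,4,1,1,3,1,3,4], [0,2,4,1,4,0,2,4,2,0,2,4,1,4,0,2,4,2,0,2,4,1,4,0,2,4,2], [0,2,4,1,4,0,2,4,2,0,2,4,1,4,0,2,4,2,1,1,2,4,1,1,3,1,3], [0,2,4,1,4,0,2,4,2,0,2,4,1,4,0,2,4,2,1,2,4,1,4,3,1,1,2]],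
  [[0,2,4,1,4,0,2,4,2,0,2,4,1,4,0,2,4,2,1,4,0,4,1,2,4,3,4], [0,2,4,1,4,0,2,4,2,0,3,0,4,1,4,2,1,2,0,2,4,1,1,3,1,4,3], [0,2,4,1,4,0,2,4,2,0,3,0,4,1,4,2,1,2,0,2,4,1,4,0,2,4,2], [0,2,4,1,4,0,2,4,2,0,3,0,4,1,4,2,1,2,0,3,0,4,1,4,2,1,2], [0,2,4,1,4,0,2,4,2,0,3,0,4,1,4,2,1,2,1,1,2,1,2,4,1,1,3], [0,2,4,1,4,0,2,4,2,1,1,2,1,2,4,1,1,3,0,2,4,1,1,3,1,3,4], [0,2,4,1,4,0,2,4,2,1,1,2,1,2,4,1,1,3,0,2,4,1,1,3,1,4,3], [0,2,4,1,4,0,2,4,2,1,1,2,1,2,4,1,1,3,0,3,0,4,1,4,2,1,2], [0,2,4,1,4,0,2,4,2,1,1,2,1,2,4,1,1,3,1,1,2,1,2,4,1,1,3], [0,2,4,1,4,0,2,4,2,1,1,2,1,2,4,1,1,3,1,1,2,4,1,1,3,1,3], [0,2,4,1,4,0,2,4,2,1,1,2,4,1,1,3,1,3,0,2,4,1,1,3,1,4,3], [0,2,4,1,4,0,2,4,2,1,1,2,4,1,1,3,1,3,0,3,0,4,1,4,2,1,2],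 [0,2,4,1,4,0,2,4,2,1,1,2,4,1,1,3,1,3,1,1,2,4,1,1,3,1,3], [0,2,4,1,4,0,2,4,2,1,1,2,4,1,1,3,1,3,1,2,4,1,4,3,1,1,2], [0,2,4,1,4,0,2,4,2,1,2,4,1,4,3,1,1,2,1,1,2,4,1,1,3,1,3], [0,2,4,1,4,0,2,4,2,1,4,0,4,1,2,4,3,4,0,2,4,1,1,3,1,3,4]],
  [[0,3,0,4,1,4,2,1,2,0,2,4,1,1,3,1,3,4,0,2,4,1,1,3,1,3,4], [0,3,0,4,1,4,2,1,2,0,2,4,1,1,3,1,4,3,1,2,4,1,4,3,1,1,2], [0,3,0,4,1,4,2,1,2,0,2,4,1,4,0,2,4,2,0,2,4,1,1,3,1,4,3], [0,3,0,4,1,4,2,1,2,0,2,4,1,4,0,2,4,2,0,4,2,0,0,0,3,4,1], [0,3,0,4,1,4,2,1,2,0,2,4,1,4,0,2,4,2,1,1,2,1,2,4,1,1,3], [0,3,0,4,1,4,2,1,2,0,2,4,1,4,0,2,4,2,1,1,2,4,1,1,3,1,3], [0,3,0,4,1,4,2,1,2,0,3,0,4,1,4,2,1,2,0,4,2,0,0,0,3,4,1],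 [0,3,0,4,1,4,2,1,2,0,3,0,4,1,4,2,1,2,1,1,2,1,2,4,1,1,3], [0,3,0,4,1,4,2,1,2,0,4,2,0,0,0,3,4,1,1,4,0,4,1,2,4,3,4], [0,3,0,4,1,4,2,1,2,1,1,2,4,1,1,3,1,3,1,1,2,4,1,1,3,1,3], [1,1,2,1,2,4,1,1,3,0,2,4,1,1,3,1,3,4,0,2,4,1,1,3,1,4,3], [1,1,2,1,2,4,1,1,3,0,2,4,1,1,3,1,3,4,0,2,4,1,4,0,2,4,2], [1,1,2,1,2,4,1,1,3,0,2,4,1,1,3,1,3,4,1,1,2,1,2,4,1,1,3], [1,1,2,1,2,4,1,1,3,0,2,4,1,1,3,1,3,4,1,4,0,4,1,2,4,3,4], [1,1,2,1,2,4,1,1,3,0,2,4,1,1,3,1,4,3,0,2,4,1,1,3,1,3,4], [1,1,2,1,2,4,1,1,3,0,2,4,1,1,3,1,4,3,0,2,4,1,4,0,2,4,2]],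
  [[1,1,2,1,2,4,1,1,3,0,2,4,1,1,3,1,4,3,1,2,4,1,4,3,1,1,2], [1,1,2,1,2,4,1,1,3,0,3,0,4,1,4,2,1,2,1,2,4,1,4,3,1,1,2], [1,1,2,1,2,4,1,1,3,1,1,2,1,2,4,1,1,3,0,2,4,1,4,0,2,4,2], [1,1,2,1,2,4,1,1,3,1,1,2,1,2,4,1,1,3,0,3,0,4,1,4,2,1,2], [1,1,2,1,2,4,1,1,3,1,1,2,4,1,1,3,1,3,0,2,4,1,1,3,1,4,3], [1,1,2,1,2,4,1,1,3,1,1,2,4,1,1,3,1,3,1,1,2,4,1,1,3,1,3], [1,1,2,1,2,4,1,1,3,1,4,0,4,1,2,4,3,4,0,3,0,4,1,4,2,1,2], [1,1,2,4,1,1,3,1,3,0,2,4,1,1,3,1,4,3,1,1,2,1,2,4,1,1,3], [1,1,2,4,1,1,3,1,3,0,2,4,1,1,3,1,4,3,1,4,0,4,1,2,4,3,4], [1,1,2,4,1,1,3,1,3,0,2,4,1,4,0,2,4,2,1,4,0,4,1,2,4,3,4], [1,1,2,4,1,1,3,1,3,1,1,2,1,2,4,1,1,3,1,4,0,4,1,2,4,3,4], [1,1,2,4,1,1,3,1,3,1,4,0,4,1,2,4,3,4,0,2,4,1,1,3,1,4,3],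 [1,1,2,4,1,1,3,1,3,1,4,0,4,1,2,4,3,4,0,3,0,4,1,4,2,1,2], [1,2,4,1,4,3,1,1,2,0,2,4,1,1,3,1,4,3,0,2,4,1,4,0,2,4,2], [1,2,4,1,4,3,1,1,2,0,3,0,4,1,4,2,1,2,0,3,0,4,1,4,2,1,2], [1,2,4,1,4,3,1,1,2,0,3,0,4,1,4,2,1,2,1,2,4,1,4,3,1,1,2]],
  [[1,2,4,1,4,3,1,1,2,1,1,2,1,2,4,1,1,3,1,1,2,4,1,1,3,1,3], [1,2,4,1,4,3,1,1,2,1,1,2,1,2,4,1,1,3,1,2,4,1,4,3,1,1,2], [1,4,0,4,1,2,4,3,4,0,2,4,1,1,3,1,4,3,0,2,4,1,4,0,2,4,2], [1,4,0,4,1,2,4,3,4,0,2,4,1,4,0,2,4,2,1,1,2,4,1,1,3,1,3], [1,4,0,4,1,2,4,3,4,0,3,0,4,1,4,2,1,2,0,3,0,4,1,4,2,1,2], [1,4,0,4,1,2,4,3,4,0,4,2,0,0,0,3,4,1,1,1,2,4,1,1,3,1,3], [1,4,0,4,1,2,4,3,4,1,4,0,4,1,2,4,3,4,0,2,4,1,1,3,1,3,4],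 [4,0,2,4,1,1,3,1,3,4,0,2,4,1,1,3,1,3,4,0,2,4,1,1,3,1,4,3], [4,0,2,4,1,1,3,1,3,4,0,2,4,1,4,0,2,4,2,0,2,4,1,4,0,2,4,2], [4,0,2,4,1,1,3,1,3,4,1,4,0,4,1,2,4,3,4,0,2,4,1,1,3,1,3,4], [4,0,2,4,1,1,3,1,4,3,0,3,0,4,1,4,2,1,2,1,4,0,4,1,2,4,3,4], [4,0,2,4,1,1,3,1,4,3,1,1,2,4,1,1,3,1,3,1,1,2,1,2,4,1,1,3], [4,0,2,4,1,4,0,2,4,2,0,2,4,1,1,3,1,4,3,0,2,4,1,4,0,2,4,2], [4,0,2,4,1,4,0,2,4,2,0,3,0,4,1,4,2,1,2,0,2,4,1,1,3,1,4,3], [4,1,1,2,1,2,4,1,1,3,1,4,0,4,1,2,4,3,4,0,3,0,4,1,4,2,1,2], [4,1,2,4,1,4,3,1,1,2,1,1,2,1,2,4,1,1,3,1,2,4,1,4,3,1,1,2]]]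

/-- Words fixing the point 124 and moving the point 123. -/
def moveTwoB : List (List (List ℕ)) := [
  [[], [0,4,2,0,0,0,3,4,1], [1,2,4,1,4,3,1,1,2,0,2,4,1,4,0,2,4,2,2,0,0,4,3,0,3,0,0,4], [1,1,2,4,1,1,3,1,3,1,2,4,1,4,3,1,1,2,2,4,0,2,0,0,4,3,1,4], [1,2,4,1,4,3,1,1,2,0,2,4,1,1,3,1,4,3,1,1,2,4,1,1,3,1,3,4], [0,2,4,1,1,3,1,3,4,1,1,2,1,2,4,1,1,3,2,4,0,2,0,0,4,3,1,4,2,0,2,0,0,4,3,1], [1,2,4,1,4,3,1,1,2,1,1,2,4,1,1,3,1,3,2,0,0,4,3,0,3,0,0,2,0,2,0,0,4,3,0,0], [1,4,0,4,1,2,4,3,4,0,2,4,1,1,3,1,3,4,2,0,0,4,3,0,3,0,0,2,4,0,2,0,0,4,3,1]]]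

end CfsgLib.HNRec.Cz
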