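import Cfsg.Agent.Lib.HNRec.Cz.InjCheck
import Cfsg.Agent.Lib.HNRec.Cz.FaithData

/-!
The checks of the words separating three base points.
-/

set_option autoImplicit false
set_option maxRecDepth 100000
set_option Elab.async false

namespace CfsgLib.HNRec.Cz

/-- No repetition. -/
def nodupB : List ℕ → Bool
  | [] => true
  | a :: l => !(l.any (Nat.beq a)) && nodupB l

/-- Words fixing the points of a list and moving another one to different places. -/
def moveOk (fix : List ℕ) (b n : ℕ) (U : List (List ℕ)) : Bool :=
  Nat.beq U.length n && (U.all fun u => (u.all fun g => Nat.blt g 5) && fix.all fun p => Nat.beq (apP u p) p) &&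
    nodupB (U.map fun u => apP u b)

theorem move_oneA : moveOk [0] 122 480 moveOneA.flatten = true := by decide +kernel

theorem move_oneB : moveOk [0, 122] 136 32 moveOneB.flatten = true := by decide +kernel

theorem move_twoA : moveOk [120] 124 240 moveTwoA.flatten = true := by decide +kernel

theorem move_twoB : moveOk [120, 124] 123 8 moveTwoB.flatten = true := by decide +kernel

end CfsgLib.HNRec.Cz
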