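import Cfsg.Agent.Lib.HNRec.Cz.Inj
import Cfsg.Agent.Lib.HNRec.Cz.Facts
import Cfsg.Agent.Lib.HNRec.Cz.Cent
import Cfsg.Agent.Lib.HNRec.Cz.FaithCheck

/-!
The two centralisers inside the centraliser of the second involution lie in the subgroup of the five
letters, and three base points see everything modulo that involution.
-/

set_option autoImplicit false
set_option maxRecDepth 100000

namespace CfsgLib.HNRec.Cz

open CfsgLib.HNxyz CfsgLib.HNIndex
open Cfsg.Spor (HN)

theorem sE_ne_one : sE ≠ 1 := by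
  refine oneW_false words_lt.1 ?_
  decide +kernel

theorem card_E0 : Nat.card E0 = 2 := by
  rw [Nat.card_zpowers]
  exact orderOf_eq_prime (by rw [pow_two]; exact sE_mul_self) sE_ne_one

theorem hpr_mV {w : List ℕ} (hw : ∀ g ∈ w, g < 6) : hpr (mV w) = hW w := by
  rw [show hpr (mV w) = evalW (elt hnCtx.a hnCtx.b hnCtx.c) w from pr_mW w, evalW, hW]
  refine congrArg List.prod (List.map_congr_left fun g hg => ?_)
  have := hw g hg
  interval_cases g <;> rfl

/-- The centraliser of a point inside the centraliser of the second involution. -/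
noncomputable abbrev ptCent (r : ℕ) : Subgroup Cfsg.Spor.HN :=
  Subgroup.centralizer ({el r} : Set Cfsg.Spor.HN) ⊓ Zs

theorem el_zero_eq : el 0 = gX * gX := by
  rw [← eltOne_eq]
  simp [el, show repW 0 = [] from rfl, actE, baseElt]

theorem el_120 : el 120 = hW eltTwo := by
  simp [el, show repW 120 = [] from rfl, actE, baseElt]

theorem card_le_model {H : Subgroup Cfsg.Spor.HN} {w : List ℕ} {u : Cfsg.Spor.HN} (hw : ∀ g ∈ w, g < 6)
    (hC : Subgroup.centralizer ({gX * gX} : Set Cfsg.Spor.HN) = hnSub)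
    (h1 : ∀ g ∈ H, u⁻¹ * g * u * (gX * gX) = gX * gX * (u⁻¹ * g * u))
    (h2 : ∀ g ∈ H, u⁻¹ * g * u * hW w = hW w * (u⁻¹ * g * u)) :
    Nat.card H ≤ Nat.card (Subgroup.centralizer ({mV w} : Set hM)) := by
  haveI : Finite hM := m_finite hnCtx.rels
  have hex : ∀ g : H, ∃ m : hM, hpr m = u⁻¹ * g.1 * u := fun g => by
    have hg : u⁻¹ * g.1 * u ∈ hpr.range := by
      rw [hpr_range, ← hC, Subgroup.mem_centralizer_singleton_iff]
      exact h1 g.1 g.2
    exact hg
  choose m hm using hex
  have hmem : ∀ g : H, m g ∈ Subgroup.centralizer ({mV w} : Set hM) := fun g => by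
    rw [Subgroup.mem_centralizer_singleton_iff]
    refine hpr_inj ?_
    rw [map_mul, map_mul, hm, hpr_mV hw]
    exact h2 g.1 g.2
  refine Nat.card_le_card_of_injective (fun g => (⟨m g, hmem g⟩ :
    Subgroup.centralizer ({mV w} : Set hM))) fun a b e => ?_
  have e' := congrArg hpr (congrArg Subtype.val e : m a = m b)
  rw [hm, hm] at e'
  exact Subtype.ext (mul_left_cancel (mul_right_cancel e'))

theorem bound_zero (hC : Subgroup.centralizer ({gX * gX} : Set Cfsg.Spor.HN) = hnSub) :
    Nat.card (ptCent 0) ≤ 30720 := by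
  refine le_trans (card_le_model (u := 1) (w := sWord) words_ok.1 hC ?_ ?_) cOne
  · intro g hg
    rw [inv_one, one_mul, mul_one, ← el_zero_eq]
    exact Subgroup.mem_centralizer_singleton_iff.1 (Subgroup.mem_inf.1 hg).1
  · intro g hg
    rw [inv_one, one_mul, mul_one]
    exact Subgroup.mem_centralizer_singleton_iff.1 (Subgroup.mem_inf.1 hg).2

theorem spWord_check : oneW (invL8 conjTwo ++ sWord ++ conjTwo ++ invL8 spWord) = true := by decide +kernel

theorem bound_two (hC : Subgroup.centralizer ({gX * gX} : Set Cfsg.Spor.HN) = hnSub) :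
    Nat.card (ptCent 120) ≤ 3840 := by
  have hw : hW spWord = (hW conjTwo)⁻¹ * sE * hW conjTwo := by
    have e := oneW_spec spWord_check
    rw [hW_app, hW_app, hW_app, hW_invL8 conjTwo (by decide),
      hW_invL8 spWord (fun g hg => lt_trans (words_ok.2.1 g hg) (by norm_num)), mul_inv_eq_one] at e
    exact e.symm
  have ha : el 120 = hW conjTwo * (gX * gX) * (hW conjTwo)⁻¹ := by
    have e := oneW_spec conjTwo_check
    rw [hW_app, hW_app, hW_app, hW_invL8 conjTwo (by decide), hW_invL8 eltTwo words_lt.2.2,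
      mul_inv_eq_one] at e
    rw [el_120, ← eltOne_eq]
    exact e.symm
  refine le_trans (card_le_model (u := hW conjTwo) (w := spWord) words_ok.2.1 hC ?_ ?_) cTwo
  · intro g hg
    have h := Subgroup.mem_centralizer_singleton_iff.1 (Subgroup.mem_inf.1 hg).1
    rw [ha] at h
    calc (hW conjTwo)⁻¹ * g * hW conjTwo * (gX * gX)
        = (hW conjTwo)⁻¹ * (g * (hW conjTwo * (gX * gX) * (hW conjTwo)⁻¹)) * hW conjTwo := by group
      _ = _ := by rw [h]; group
  · intro g hg
    have h := Subgroup.mem_centralizer_singleton_iff.1 (Subgroup.mem_inf.1 hg).2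
    rw [hw]
    calc (hW conjTwo)⁻¹ * g * hW conjTwo * ((hW conjTwo)⁻¹ * sE * hW conjTwo)
        = (hW conjTwo)⁻¹ * (g * sE) * hW conjTwo := by group
      _ = _ := by rw [h]; group

theorem nodupB_iff : ∀ {l : List ℕ}, nodupB l = true → l.Nodup
  | [], _ => List.nodup_nil
  | a :: l, h => by
    simp only [nodupB, Bool.and_eq_true, Bool.not_eq_true', List.any_eq_false, Nat.beq_eq] at h
    exact List.nodup_cons.2 ⟨fun hm => h.1 a hm rfl, nodupB_iff h.2⟩

theorem move_spec {fix : List ℕ} {b n : ℕ} {U : List (List ℕ)} (h : moveOk fix b n U = true) :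
    U.length = n ∧ (∀ u ∈ U, (∀ g ∈ u, g < 5) ∧ ∀ p ∈ fix, apP u p = p) ∧ (U.map fun u => apP u b).Nodup := by
  simp only [moveOk, Bool.and_eq_true, List.all_eq_true, Nat.blt_eq, Nat.beq_eq] at h
  exact ⟨h.1.1, h.1.2, nodupB_iff h.2⟩

/-- Enough different images force the centraliser into the subgroup and pin the kernel. -/
theorem cent_exact {r b1 b2 n1 n2 : ℕ} {U V : List (List ℕ)} (hr : r < 1080) (hb1 : b1 < 1080) (hb2 : b2 < 1080)
    (hU : moveOk [r] b1 n1 U = true) (hV : moveOk [r, b1] b2 n2 V = true)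
    (hle : Nat.card (ptCent r) ≤ n1 * n2 * 2) (hpos : 0 < n1 * n2) :
    ptCent r ≤ K ∧ Nat.card (ptCent r) = n1 * n2 * 2 ∧
      ∀ g ∈ ptCent r, Commute g (el b1) → Commute g (el b2) → g ∈ E0 := by
  haveI : Finite Cfsg.Spor.HN := hn_finite
  obtain ⟨lU, hU1, hU2⟩ := move_spec hU
  obtain ⟨lV, hV1, hV2⟩ := move_spec hV
  let S : Subgroup Cfsg.Spor.HN :=
    ptCent r ⊓ Subgroup.centralizer ({el b1} : Set Cfsg.Spor.HN) ⊓ Subgroup.centralizer ({el b2} : Set Cfsg.Spor.HN)
  have hmemC : ∀ w : List ℕ, (∀ g ∈ w, g < 5) → apP w r = r → actE w ∈ ptCent r := by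
    intro w hw e
    refine Subgroup.mem_inf.2 ⟨Subgroup.mem_centralizer_singleton_iff.2 ?_, actE_mem w⟩
    have := (actE_conj hw hr).2
    rw [e] at this
    exact mul_inv_eq_iff_eq_mul.1 this
  have hE : E0 ≤ S := by
    refine Subgroup.zpowers_le.2 ?_
    have hc : ∀ x : ℕ, sE ∈ Subgroup.centralizer ({el x} : Set Cfsg.Spor.HN) := fun x =>
      Subgroup.mem_centralizer_singleton_iff.2 (Subgroup.mem_centralizer_singleton_iff.1 (el_mem_Zs x)).symm
    exact ⟨⟨⟨hc r, Subgroup.mem_centralizer_singleton_iff.2 rfl⟩, hc b1⟩, hc b2⟩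
  let f : Fin U.length × Fin V.length × S → ptCent r := fun p =>
    ⟨actE (U.get p.1) * actE (V.get p.2.1) * p.2.2.1,
      mul_mem (mul_mem (hmemC _ (hU1 _ (List.get_mem ..)).1 ((hU1 _ (List.get_mem ..)).2 r (by simp)))
        (hmemC _ (hV1 _ (List.get_mem ..)).1 ((hV1 _ (List.get_mem ..)).2 r (by simp)))) p.2.2.2.1.1⟩
  have hfix : ∀ (h : S) (x : ℕ), x = b1 ∨ x = b2 → h.1 * el x * h.1⁻¹ = el x := by
    intro h x hx
    have : h.1 ∈ Subgroup.centralizer ({el x} : Set Cfsg.Spor.HN) := by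
      rcases hx with rfl | rfl
      exacts [h.2.1.2, h.2.2]
    rw [Subgroup.mem_centralizer_singleton_iff.1 this, mul_inv_cancel_right]
  have hf : Function.Injective f := by
    rintro ⟨i, j, a⟩ ⟨i', j', a'⟩ e
    have e' : actE (U.get i) * actE (V.get j) * a.1 = actE (U.get i') * actE (V.get j') * a'.1 :=
      congrArg Subtype.val e
    have first : ∀ (i : Fin U.length) (j : Fin V.length) (a : S),
        actE (U.get i) * actE (V.get j) * a.1 * el b1 * (actE (U.get i) * actE (V.get j) * a.1)⁻¹ =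
          el (apP (U.get i) b1) := by
      intro i j a
      have hv := hV1 _ (List.get_mem V j)
      have h1 := (actE_conj hv.1 hb1).2
      rw [hv.2 b1 (by simp)] at h1
      calc actE (U.get i) * actE (V.get j) * a.1 * el b1 * (actE (U.get i) * actE (V.get j) * a.1)⁻¹
          = actE (U.get i) * (actE (V.get j) * (a.1 * el b1 * a.1⁻¹) * (actE (V.get j))⁻¹) *
            (actE (U.get i))⁻¹ := by group
        _ = _ := by rw [hfix a b1 (Or.inl rfl), h1, (actE_conj (hU1 _ (List.get_mem U i)).1 hb1).2]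
    have h1 := first i j a
    rw [e', first i' j' a'] at h1
    have hi := el_inj (actE_conj (hU1 _ (List.get_mem U i')).1 hb1).1
      (actE_conj (hU1 _ (List.get_mem U i)).1 hb1).1 h1
    obtain rfl : i = i' := by
      have hi' : (U.map fun u => apP u b1)[i.val]'(by simp) = (U.map fun u => apP u b1)[i'.val]'(by simp) := by
        simpa using hi.symm
      exact Fin.ext ((hU2.getElem_inj_iff).1 hi')
    rw [mul_assoc, mul_assoc] at e'
    have e2 := mul_left_cancel e'
    have second : ∀ (j : Fin V.length) (a : S),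
        actE (V.get j) * a.1 * el b2 * (actE (V.get j) * a.1)⁻¹ = el (apP (V.get j) b2) := by
      intro j a
      calc actE (V.get j) * a.1 * el b2 * (actE (V.get j) * a.1)⁻¹
          = actE (V.get j) * (a.1 * el b2 * a.1⁻¹) * (actE (V.get j))⁻¹ := by group
        _ = _ := by rw [hfix a b2 (Or.inr rfl), (actE_conj (hV1 _ (List.get_mem V j)).1 hb2).2]
    have h2 := second j a
    rw [e2, second j' a'] at h2
    have hj := el_inj (actE_conj (hV1 _ (List.get_mem V j')).1 hb2).1
      (actE_conj (hV1 _ (List.get_mem V j)).1 hb2).1 h2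
    obtain rfl : j = j' := by
      have hj' : (V.map fun u => apP u b2)[j.val]'(by simp) = (V.map fun u => apP u b2)[j'.val]'(by simp) := by
        simpa using hj.symm
      exact Fin.ext ((hV2.getElem_inj_iff).1 hj')
    rw [Subtype.ext (mul_left_cancel e2) (a1 := a) (a2 := a')]
  have hcard := Nat.card_le_card_of_injective f hf
  rw [Nat.card_prod, Nat.card_prod, Nat.card_fin, Nat.card_fin, lU, lV, ← mul_assoc] at hcard
  have hS2 : 2 ≤ Nat.card S := by
    have := Nat.card_le_card_of_injective _ (Subgroup.inclusion_injective hE)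
    rwa [card_E0] at this
  have hS : Nat.card S = 2 := le_antisymm (Nat.le_of_mul_le_mul_left (hcard.trans hle) hpos) hS2
  have hSE : E0 = S := Subgroup.eq_of_le_of_card_ge hE (by rw [hS, card_E0])
  have heq : Nat.card (ptCent r) = n1 * n2 * 2 := le_antisymm hle (by rw [hS] at hcard; exact hcard)
  have hb : Function.Bijective f :=
    (Nat.bijective_iff_injective_and_card f).2 ⟨hf, by
      rw [Nat.card_prod, Nat.card_prod, Nat.card_fin, Nat.card_fin, lU, lV, hS, heq, mul_assoc]⟩
  refine ⟨fun g hg => ?_, heq, fun g hg h1 h2 => ?_⟩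
  · obtain ⟨⟨i, j, a⟩, e⟩ := hb.2 ⟨g, hg⟩
    rw [← show actE (U.get i) * actE (V.get j) * a.1 = g from congrArg Subtype.val e]
    refine mul_mem (mul_mem (actE_mem_K (hU1 _ (List.get_mem U i)).1) (actE_mem_K (hV1 _ (List.get_mem V j)).1)) ?_
    have hle' : E0 ≤ K := Subgroup.zpowers_le.2 sE_mem_K
    exact hle' (hSE.symm ▸ a.2)
  · rw [hSE]
    exact ⟨⟨hg, Subgroup.mem_centralizer_singleton_iff.2 h1.eq⟩, Subgroup.mem_centralizer_singleton_iff.2 h2.eq⟩

theorem exact_zero (hC : Subgroup.centralizer ({gX * gX} : Set Cfsg.Spor.HN) = hnSub) :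
    ptCent 0 ≤ K ∧ Nat.card (ptCent 0) = 30720 ∧
      ∀ g ∈ ptCent 0, Commute g (el 122) → Commute g (el 136) → g ∈ E0 :=
  cent_exact (n1 := 480) (n2 := 32) (by norm_num) (by norm_num) (by norm_num) move_oneA move_oneB
    ((bound_zero hC).trans (by norm_num)) (by norm_num)

theorem exact_two (hC : Subgroup.centralizer ({gX * gX} : Set Cfsg.Spor.HN) = hnSub) :
    ptCent 120 ≤ K ∧ Nat.card (ptCent 120) = 3840 ∧
      ∀ g ∈ ptCent 120, Commute g (el 124) → Commute g (el 123) → g ∈ E0 :=
  cent_exact (n1 := 240) (n2 := 8) (by norm_num) (by norm_num) (by norm_num) move_twoA move_twoB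
    ((bound_two hC).trans (by norm_num)) (by norm_num)

/-- Inside the centraliser of the second involution the subgroup controls the numbered elements. -/
theorem el_control (hC : Subgroup.centralizer ({gX * gX} : Set Cfsg.Spor.HN) = hnSub) {i j : ℕ}
    (hi : i < 1080) (hj : j < 1080) {g : Cfsg.Spor.HN} (hg : g ∈ Zs) (e : g * el i * g⁻¹ = el j) : g ∈ K := by
  haveI : Finite Cfsg.Spor.HN := hn_finite
  set P := actE (repW i)
  set Q := actE (repW j)
  set h := Q⁻¹ * g * P with hh
  have hP := (repW_spec hi)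
  have hQ := (repW_spec hj)
  have e' : h * el (rootOf i) * h⁻¹ = el (rootOf j) := by
    have h1 := (actE_conj hP.1 (rootOf_lt i)).2
    rw [hP.2] at h1
    have h2 := (actE_conj hQ.1 (rootOf_lt j)).2
    rw [hQ.2] at h2
    rw [hh, show Q⁻¹ * g * P * el (rootOf i) * (Q⁻¹ * g * P)⁻¹ = Q⁻¹ * (g * (P * el (rootOf i) * P⁻¹) * g⁻¹) * Q
      by group, h1, e]
    show (actE (repW j))⁻¹ * el j * actE (repW j) = el (rootOf j)
    rw [← h2]
    group
  have hZ : h ∈ Zs := mul_mem (mul_mem (inv_mem (actE_mem _)) hg) (actE_mem _)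
  suffices hK : h ∈ K by
    have := mul_mem (mul_mem (actE_mem_K hQ.1) hK) (inv_mem (actE_mem_K hP.1))
    rwa [hh, show Q * (Q⁻¹ * g * P) * P⁻¹ = g by group] at this
  -- conjugate centralisers have the same order
  have card_eq : Nat.card (ptCent (rootOf i)) = Nat.card (ptCent (rootOf j)) := by
    have hmap : (ptCent (rootOf i)).map (MulAut.conj h).toMonoidHom = ptCent (rootOf j) := by
      refine le_antisymm ?_ ?_
      · rintro _ ⟨x, hx, rfl⟩
        obtain ⟨hx1, hx2⟩ := Subgroup.mem_inf.1 hx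
        refine Subgroup.mem_inf.2 ⟨Subgroup.mem_centralizer_singleton_iff.2 ?_, mul_mem (mul_mem hZ hx2) (inv_mem hZ)⟩
        show h * x * h⁻¹ * el (rootOf j) = el (rootOf j) * (h * x * h⁻¹)
        rw [← e', show h * x * h⁻¹ * (h * el (rootOf i) * h⁻¹) = h * (x * el (rootOf i)) * h⁻¹ by group,
          Subgroup.mem_centralizer_singleton_iff.1 hx1]
        group
      · intro y hy
        obtain ⟨hy1, hy2⟩ := Subgroup.mem_inf.1 hy
        refine ⟨h⁻¹ * y * h, Subgroup.mem_inf.2 ⟨Subgroup.mem_centralizer_singleton_iff.2 ?_,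
          mul_mem (mul_mem (inv_mem hZ) hy2) hZ⟩, by show h * (h⁻¹ * y * h) * h⁻¹ = y; group⟩
        rw [show h⁻¹ * y * h * el (rootOf i) = h⁻¹ * (y * (h * el (rootOf i) * h⁻¹)) * h by group, e',
          Subgroup.mem_centralizer_singleton_iff.1 hy1, ← e']
        group
    rw [← hmap]
    exact Nat.card_congr ((ptCent (rootOf i)).equivMapOfInjective _ (MulAut.conj h).injective).toEquiv
  have hroot : rootOf i = rootOf j := by
    have z := (exact_zero hC).2.1
    have w := (exact_two hC).2.1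
    revert card_eq
    unfold rootOf
    split_ifs <;> intro c <;> omega
  rw [← hroot] at e'
  have hc : h ∈ ptCent (rootOf i) :=
    Subgroup.mem_inf.2 ⟨Subgroup.mem_centralizer_singleton_iff.2 (mul_inv_eq_iff_eq_mul.1 e'), hZ⟩
  revert hc
  unfold rootOf
  split_ifs
  exacts [fun hc => (exact_zero hC).1 hc, fun hc => (exact_two hC).1 hc]

/-- The three base points see everything modulo the second involution. -/
theorem faith (hC : Subgroup.centralizer ({gX * gX} : Set Cfsg.Spor.HN) = hnSub) {g : Cfsg.Spor.HN} (hg : g ∈ Zs)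
    (h : ∀ b ∈ tabs.base, Commute g (el b)) : g ∈ E0 :=
  (exact_zero hC).2.2 g
    (Subgroup.mem_inf.2 ⟨Subgroup.mem_centralizer_singleton_iff.2 (h 0 (by simp [tabs])).eq, hg⟩)
    (h 122 (by simp [tabs])) (h 136 (by simp [tabs]))

end CfsgLib.HNRec.Cz
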