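import Cfsg.Agent.Lib.HNRec.Cz.Faith

/-!
The centraliser of the second involution: equal to the subgroup of the five letters in the presented
group, and inside the image of the presented group in a group controlling the fusion.
-/

set_option autoImplicit false
set_option maxRecDepth 100000

namespace CfsgLib.HNRec.Cz

open CfsgLib.HNxyz CfsgLib.HNIndex
open Cfsg.Spor (HN)

theorem cen_E0 : ∀ e ∈ E0, ∀ g ∈ Zs, Commute e g := by
  intro e he g hg
  obtain ⟨k, rfl⟩ := Subgroup.mem_zpowers_iff.1 he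
  have h : Commute g sE := Subgroup.mem_centralizer_singleton_iff.1 hg
  exact (h.zpow_right k).symm

theorem K_le_Zs : K ≤ Zs := by
  refine (Subgroup.closure_le _).2 ?_
  rintro _ ⟨g, -, rfl⟩
  exact gl_mem g

theorem sE_mem_Zs : sE ∈ Zs := Subgroup.mem_centralizer_singleton_iff.2 rfl

/-- The letters of the word of a point act as the tables say. -/
theorem word_act {i g : ℕ} (hi : i < 1080) (hg : g ∈ ptWord i) :
    gl g ∈ Zs ∧ ∀ x < 1080, actN g x < 1080 ∧ gl g * el x * (gl g)⁻¹ = el (actN g x) :=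
  ⟨gl_mem g, fun _ hx => conj_el (ptWord_lt hi g hg) hx⟩

/-- Tables giving the same model. -/
def agrees (T : Tabs) : Bool :=
  Nat.beq T.N 1080 && Tabs.eqKey T.base tabs.base && (List.range 1080).all fun i =>
    Tabs.eqKey (T.word i) (ptWord i) && (List.range 5).all fun g => Nat.beq (T.act g i) (actN g i)

theorem agrees_spec {T : Tabs} (h : agrees T = true) : T.N = 1080 ∧ T.base = tabs.base ∧
    (∀ i < 1080, T.word i = ptWord i) ∧ ∀ i < 1080, ∀ g < 5, T.act g i = actN g i := by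
  simp only [agrees, Bool.and_eq_true, List.all_eq_true, List.mem_range, Nat.beq_eq, Tabs.eqKey_iff] at h
  exact ⟨h.1.1, h.1.2, fun i hi => (h.2 i hi).1, fun i hi g hg => (h.2 i hi).2 g hg⟩

theorem classA_sq {a : Cfsg.Spor.HN} (ha : a ∈ classA) : a * a = 1 := by
  obtain ⟨g, rfl⟩ := ha
  have ht : gX * gX * (gX * gX) = 1 := by rw [← el_zero_eq]; exact el_sq 0
  rw [show g * (gX * gX) * g⁻¹ * (g * (gX * gX) * g⁻¹) = g * (gX * gX * (gX * gX)) * g⁻¹ by group, ht,
    mul_one, mul_inv_cancel]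

/-- In the presented group the centraliser of the second involution is the subgroup of the letters. -/
theorem zs_le_K (hC : Subgroup.centralizer ({gX * gX} : Set Cfsg.Spor.HN) = hnSub)
    (hcomp : ∀ a ∈ classA, a ∈ K → ∃ i < 1080, el i = a) {T : Tabs} (hT : agrees T = true) (tr : Tree)
    (h : T.check tr [[]] (List.range T.N) = true) : Zs ≤ K := by
  haveI : Finite Cfsg.Spor.HN := hn_finite
  obtain ⟨hN, hB, hW', hA⟩ := agrees_spec hT
  have Fr : Frame {a : ↥Zs | a.1 ∈ classA} (K.subgroupOf Zs) (⊤ : Subgroup ↥Zs)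
      (Subgroup.zpowers (⟨sE, sE_mem_Zs⟩ : ↥Zs)) T (fun i => ⟨el i, el_mem_Zs i⟩) glZ := by
    have hmem : ∀ {x : ↥Zs}, x ∈ Subgroup.zpowers (⟨sE, sE_mem_Zs⟩ : ↥Zs) ↔ x.1 ∈ E0 := by
      intro x
      rw [Subgroup.mem_zpowers_iff, Subgroup.mem_zpowers_iff]
      exact ⟨fun ⟨k, e⟩ => ⟨k, by rw [← e]; simp⟩, fun ⟨k, e⟩ => ⟨k, Subtype.ext (by simpa using e)⟩⟩
    refine ⟨⟨fun a ha => Subtype.ext (classA_sq ha), ?_, ?_⟩, ?_, le_top, fun e he g _ => Subtype.ext
      (cen_E0 _ (hmem.1 he) _ g.2).eq, fun i hi => ⟨el_class i, el_mem_K (hN ▸ hi), trivial⟩, ?_, ?_, ?_, ?_, ?_, ?_⟩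
    · rintro a ⟨g, hg⟩ k
      exact ⟨k.1 * g, by show _ = k.1 * a.1 * k.1⁻¹; rw [← hg]; group⟩
    · intro a ha haK g hgK
      obtain ⟨i, hi, ei⟩ := hcomp a.1 ha haK
      have hcl : (g * a * g⁻¹).1 ∈ classA := by
        obtain ⟨k, hk⟩ := ha
        exact ⟨g.1 * k, by show _ = g.1 * a.1 * g.1⁻¹; rw [← hk]; group⟩
      obtain ⟨j, hj, ej⟩ := hcomp (g * a * g⁻¹).1 hcl hgK
      refine el_control hC hi hj g.2 ?_
      rw [ei, ej]
      rfl
    · exact Subgroup.zpowers_le.2 sE_mem_K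
    · intro a ha haK _
      obtain ⟨i, hi, ei⟩ := hcomp a.1 ha haK
      exact ⟨i, hN.symm ▸ hi, Subtype.ext ei⟩
    · exact fun i hi j hj e => el_inj (hN ▸ hi) (hN ▸ hj) (congrArg Subtype.val e)
    · intro i hi g hg
      rw [hN] at hi
      rw [hW' i hi] at hg
      refine ⟨trivial, fun x hx => ?_⟩
      rw [hN] at hx ⊢
      rw [hA x hx g (ptWord_lt hi g hg)]
      exact ⟨((word_act hi hg).2 x hx).1, Subtype.ext ((word_act hi hg).2 x hx).2⟩
    · intro i hi
      rw [hN] at hi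
      rw [hW' i hi]
      refine hmem.2 ?_
      have e : ((((ptWord i).map glZ).prod : ↥Zs) : Cfsg.Spor.HN) = ((ptWord i).map gl).prod := by
        rw [← Subgroup.coe_subtype, map_list_prod, List.map_map]
        rfl
      rw [Subgroup.coe_mul, Subgroup.coe_inv, e]
      exact word_eq hi
    · intro b hb
      rw [hB] at hb
      simp only [tabs, List.mem_cons, List.not_mem_nil, or_false] at hb
      rcases hb with rfl | rfl | rfl <;> norm_num [hN]
    · exact fun g _ _ hb => hmem.2 (faith hC g.2 fun b hb' => congrArg Subtype.val (hb b (hB.symm ▸ hb')).eq)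
  intro g hg
  exact Fr.le_of_root tr h (Subgroup.mem_top (⟨g, hg⟩ : ↥Zs))

/-- In a larger group controlling the fusion the centraliser lies in the image. -/
theorem cent_le_range {G : Type*} [Group G] [Finite G] (f : Cfsg.Spor.HN →* G) (hf : Function.Injective f)
    (hC : Subgroup.centralizer ({gX * gX} : Set Cfsg.Spor.HN) = hnSub)
    (hctrl : Ctrl {a | ∃ g : G, g * f (gX * gX) * g⁻¹ = a} f.range)
    (hfus : ∀ a : Cfsg.Spor.HN, (∃ g : G, g * f (gX * gX) * g⁻¹ = f a) → a ∈ classA)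
    (hcomp : ∀ a ∈ classA, a ∈ K → ∃ i < 1080, el i = a) {T : Tabs} (hT : agrees T = true) (tr : Tree)
    (h : T.check tr [[]] (List.range T.N) = true) : Subgroup.centralizer ({f sE} : Set G) ≤ f.range := by
  have hZK := zs_le_K hC hcomp hT tr h
  obtain ⟨hN, hB, hW', hA⟩ := agrees_spec hT
  have hpre : ∀ {g : G}, g ∈ Subgroup.centralizer ({f sE} : Set G) → ∀ a, f a = g → a ∈ Zs := by
    rintro g hg a rfl
    refine Subgroup.mem_centralizer_singleton_iff.2 (hf ?_)
    rw [map_mul, map_mul]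
    exact Subgroup.mem_centralizer_singleton_iff.1 hg
  have hH : ∀ {a : Cfsg.Spor.HN}, a ∈ Zs → f a ∈ Subgroup.centralizer ({f sE} : Set G) := fun {a} ha =>
    Subgroup.mem_centralizer_singleton_iff.2 (by
      rw [← map_mul, Subgroup.mem_centralizer_singleton_iff.1 ha, map_mul])
  have hmem : ∀ {a : Cfsg.Spor.HN}, a ∈ E0 → f a ∈ Subgroup.zpowers (f sE) := fun {a} ha => by
    obtain ⟨k, rfl⟩ := Subgroup.mem_zpowers_iff.1 ha
    exact Subgroup.mem_zpowers_iff.2 ⟨k, (map_zpow f sE k).symm⟩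
  have Fr : Frame {a | ∃ g : G, g * f (gX * gX) * g⁻¹ = a} f.range (Subgroup.centralizer ({f sE} : Set G))
      (Subgroup.zpowers (f sE)) T (fun i => f (el i)) (fun g => f (gl g)) := by
    refine ⟨hctrl, Subgroup.zpowers_le.2 ⟨sE, rfl⟩, Subgroup.zpowers_le.2 (hH sE_mem_Zs), ?_, ?_, ?_, ?_, ?_,
      ?_, ?_, ?_⟩
    · intro e he g hg
      obtain ⟨k, rfl⟩ := Subgroup.mem_zpowers_iff.1 he
      exact ((show Commute g (f sE) from Subgroup.mem_centralizer_singleton_iff.1 hg).zpow_right k).symm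
    · intro i _
      obtain ⟨g, hg⟩ := el_class i
      exact ⟨⟨f g, by rw [← map_inv, ← map_mul, ← map_mul, hg]⟩, ⟨el i, rfl⟩, hH (el_mem_Zs i)⟩
    · rintro _ hA ⟨a, rfl⟩ hH0
      obtain ⟨i, hi, ei⟩ := hcomp a (hfus a hA) (hZK (hpre hH0 a rfl))
      exact ⟨i, hN.symm ▸ hi, congrArg f ei⟩
    · exact fun i hi j hj e => el_inj (hN ▸ hi) (hN ▸ hj) (hf e)
    · intro i hi g hg
      rw [hN] at hi
      rw [hW' i hi] at hg
      refine ⟨hH (word_act hi hg).1, fun x hx => ?_⟩
      rw [hN] at hx ⊢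
      rw [hA x hx g (ptWord_lt hi g hg)]
      refine ⟨((word_act hi hg).2 x hx).1, ?_⟩
      show f (gl g) * f (el x) * (f (gl g))⁻¹ = f (el (actN g x))
      rw [← map_inv, ← map_mul, ← map_mul, ((word_act hi hg).2 x hx).2]
    · intro i hi
      rw [hN] at hi
      rw [hW' i hi]
      have := hmem (word_eq hi)
      rw [map_mul, map_inv, map_list_prod, List.map_map] at this
      exact this
    · intro b hb
      rw [hB] at hb
      simp only [tabs, List.mem_cons, List.not_mem_nil, or_false] at hb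
      rcases hb with rfl | rfl | rfl <;> norm_num [hN]
    · intro g hg hgc hb
      have hle : Subgroup.closure ((fun i => f (el i)) '' Set.Iio T.N) ≤ f.range :=
        (Subgroup.closure_le _).2 (Set.image_subset_iff.2 fun i _ => ⟨el i, rfl⟩)
      obtain ⟨a, rfl⟩ := hle hgc
      refine hmem (faith hC (hpre hg a rfl) fun b hb' => hf ?_)
      rw [map_mul, map_mul]
      exact (hb b (hB.symm ▸ hb')).eq
  exact Fr.le_of_root tr h

end CfsgLib.HNRec.Cz
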