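import Cfsg.Agent.Lib.HNRec.Cz.Orbit
import Cfsg.Agent.Lib.HNRec.Cz.InjCheck

/-!
The numbering is injective: a coincidence would propagate to one of two tested pairs.
-/

set_option autoImplicit false
set_option maxRecDepth 100000

namespace CfsgLib.HNRec.Cz

open CfsgLib.HNxyz CfsgLib.HNAlt
open Cfsg.Spor (HN)

theorem oneW_false {w : List ℕ} (hl : ∀ g ∈ w, g < 8) (h : oneW w = false) : hW w ≠ 1 := by
  intro e
  have hall : (w.all fun g => Nat.blt g matGens.length) = true := by
    simp only [List.all_eq_true, Nat.blt_eq, matGens_len]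
    exact hl
  simp only [oneW, hall, Bool.true_and] at h
  have hn := img_base.ne_one_rho (w := w) (by rw [hall, h]; rfl)
  rw [List.map_congr_left fun g hg => hnL_eq g (hl g hg)] at hn
  exact hn (by rw [show (w.map hnL).prod = hW w from rfl, e, map_one])

theorem apP_cons (g : ℕ) (w : List ℕ) (x : ℕ) : apP (g :: w) x = apP w (actN g x) := rfl

theorem actE_conj : ∀ {w : List ℕ}, (∀ g ∈ w, g < 5) → ∀ {i : ℕ}, i < 1080 →
    apP w i < 1080 ∧ actE w * el i * (actE w)⁻¹ = el (apP w i)
  | [], _, i, hi => ⟨hi, by simp [actE, apP]⟩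
  | g :: w, hw, i, hi => by
    obtain ⟨h1, h2⟩ := conj_el (hw g (List.mem_cons_self ..)) hi
    obtain ⟨h3, h4⟩ := actE_conj (w := w) (fun x hx => hw x (List.mem_cons_of_mem _ hx)) h1
    refine ⟨h3, ?_⟩
    rw [apP_cons, ← h4, ← h2, actE_cons]
    group

theorem el_translate {w : List ℕ} (hw : ∀ g ∈ w, g < 5) {i j : ℕ} (hi : i < 1080) (hj : j < 1080)
    (e : el i = el j) : el (apP w i) = el (apP w j) := by
  rw [← (actE_conj hw hi).2, ← (actE_conj hw hj).2, e]

theorem act_spec {i g : ℕ} (hi : i < 1080) (hg : g < 5) :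
    actN (iv g) (actN g i) = i ∧ iv g < 5 ∧ (actN g i < 120 ↔ i < 120) := by
  have h := List.all_eq_true.1 (List.all_eq_true.1 act_checks i (List.mem_range.2 hi)) g (List.mem_range.2 hg)
  simp only [Bool.and_eq_true, Nat.beq_eq, Nat.blt_eq, beq_iff_eq] at h
  refine ⟨h.1.1, h.1.2, ?_⟩
  rw [← Nat.blt_eq, h.2, Nat.blt_eq]

theorem invP_spec : ∀ {w : List ℕ}, (∀ g ∈ w, g < 5) → (∀ g ∈ invP w, g < 5) ∧
    ∀ {i : ℕ}, i < 1080 → apP (invP w) (apP w i) = i ∧ (apP w i < 120 ↔ i < 120)
  | [], _ => ⟨by simp [invP], fun {i} _ => by simp [invP, apP]⟩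
  | g :: w, hw => by
    obtain ⟨h1, h2⟩ := invP_spec (w := w) fun x hx => hw x (List.mem_cons_of_mem _ hx)
    have hg := hw g (List.mem_cons_self ..)
    have e : invP (g :: w) = invP w ++ [iv g] := by simp [invP]
    refine ⟨fun x hx => ?_, fun {i} hi => ?_⟩
    · rw [e, List.mem_append, List.mem_singleton] at hx
      rcases hx with hx | rfl
      exacts [h1 x hx, (act_spec (i := 0) (by norm_num) hg).2.1]
    · obtain ⟨a1, a2⟩ := h2 (conj_el hg hi).1
      refine ⟨?_, ?_⟩
      · have : apP (invP (g :: w)) (apP (g :: w) i) = actN (iv g) (apP (invP w) (apP w (actN g i))) := by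
          rw [e]; simp [apP, List.foldl_append]
        rw [this, a1, (act_spec hi hg).1]
      · rw [apP_cons, a2, (act_spec hi hg).2.2]

theorem repW_spec {i : ℕ} (hi : i < 1080) : (∀ g ∈ repW i, g < 5) ∧ apP (repW i) (rootOf i) = i := by
  have h := List.all_eq_true.1 root_checks i (List.mem_range.2 hi)
  simp only [Bool.and_eq_true, List.all_eq_true, Nat.blt_eq, Nat.beq_eq] at h
  exact h

theorem rootOf_lt (i : ℕ) : rootOf i < 1080 := by unfold rootOf; split_ifs <;> norm_num

theorem fixes_of {L : List (List ℕ)} {p : ℕ} (h : fixesPt L p = true) {s : List ℕ} (hs : s ∈ L) :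
    (∀ g ∈ s, g < 5) ∧ apP s p = p := by
  have := List.all_eq_true.1 h s hs
  simp only [Bool.and_eq_true, List.all_eq_true, Nat.blt_eq, Nat.beq_eq] at this
  exact this

theorem chase_spec {L : List (List ℕ)} {p : ℕ} (hp : p < 1080) (hL : fixesPt L p = true) :
    ∀ (n : ℕ) {x : ℕ}, x < 1080 → el p = el x → chase L n x < 1080 ∧ el p = el (chase L n x)
  | 0, _, hx, e => ⟨hx, e⟩
  | n + 1, x, hx, e => by
    simp only [chase]
    split_ifs with hs
    · exact ⟨hx, e⟩
    · set s := L.getD (((stepT.getD (x / 32) []).getD (x % 32) 0) - 1) [] with hsd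
      have hf : (∀ g ∈ s, g < 5) ∧ apP s p = p := by
        rcases lt_or_ge (((stepT.getD (x / 32) []).getD (x % 32) 0) - 1) L.length with hk | hk
        · rw [hsd, List.getD_eq_getElem _ _ hk]
          exact fixes_of hL (List.getElem_mem hk)
        · rw [hsd, List.getD_eq_default _ _ hk]
          exact ⟨by simp, rfl⟩
      refine chase_spec hp hL n (actE_conj hf.1 hx).1 ?_
      have := el_translate hf.1 hp hx e
      rwa [hf.2] at this

theorem walk_spec {p r : ℕ} (hp : p < 1080) (hr : r < 1080) (e : el p = el r) :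
    ∀ {l : List (List ℕ × Bool)} {cur m : ℕ}, cur < 1080 → el p = el cur →
      walkEnd p r l cur = some m → m < 1080 ∧ el p = el m
  | [], cur, m, hc, ec, h => by
    simp only [walkEnd, Option.some.injEq] at h
    exact h ▸ ⟨hc, ec⟩
  | (w, f) :: l, cur, m, hc, ec, h => by
    cases f <;> simp only [walkEnd, Bool.false_eq_true, if_false, if_true] at h <;> split_ifs at h with hw <;>
      simp only [Bool.and_eq_true, List.all_eq_true, Nat.blt_eq, Nat.beq_eq] at hw
    · refine walk_spec hp hr e (actE_conj hw.1 hr).1 ?_ h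
      rw [ec, ← hw.2]
      exact el_translate hw.1 hp hr e
    · refine walk_spec hp hr e (actE_conj hw.1 hp).1 ?_ h
      rw [ec, ← hw.2]
      exact (el_translate hw.1 hp hr e).symm

theorem invL8_lt {u : List ℕ} (hu : ∀ x ∈ u, x < 8) : ∀ x ∈ invL8 u, x < 8 := by
  intro x hx
  simp only [invL8, List.mem_map, List.mem_reverse] at hx
  obtain ⟨y, hy, rfl⟩ := hx
  exact (show ∀ y < 8, y ^^^ 1 < 8 by decide) y (hu y hy)

theorem tested_ne : el 0 ≠ el 58 ∧ el 120 ≠ el 311 := by
  have h1 : oneW (flatP (repW 58) ++ eltOne ++ invL8 (flatP (repW 58)) ++ invL8 eltOne) = false := by decide +kernel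
  have h2 : oneW (flatP (repW 311) ++ eltTwo ++ invL8 (flatP (repW 311)) ++ invL8 eltTwo) = false := by decide +kernel
  have main : ∀ {b w : List ℕ}, (∀ x ∈ b, x < 8) →
      oneW (flatP w ++ b ++ invL8 (flatP w) ++ invL8 b) = false → hW b ≠ actE w * hW b * (actE w)⁻¹ := by
    intro b w hb h e
    have hl : ∀ g ∈ flatP w ++ b ++ invL8 (flatP w) ++ invL8 b, g < 8 := by
      intro g hg
      simp only [List.mem_append] at hg
      rcases hg with ((hg | hg) | hg) | hg
      exacts [(flatP_spec w).2 g hg, hb g hg, invL8_lt (flatP_spec w).2 g hg, invL8_lt hb g hg]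
    refine oneW_false hl h ?_
    rw [hW_app, hW_app, hW_app, hW_invL8 _ (flatP_spec w).2, hW_invL8 _ hb, (flatP_spec w).1, ← e,
      mul_inv_cancel]
  constructor
  · intro e
    refine main words_lt.2.1 h1 ?_
    calc hW eltOne = el 0 := by simp [el, show repW 0 = [] from rfl, actE, baseElt]
      _ = _ := by rw [e]; rfl
  · intro e
    refine main words_lt.2.2 h2 ?_
    calc hW eltTwo = el 120 := by simp [el, show repW 120 = [] from rfl, actE, baseElt]
      _ = _ := by rw [e]; rfl

/-- A coincidence with the first point of the same orbit. -/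
theorem root_inj {j : ℕ} (hj : j < 1080) (e : el (rootOf j) = el j) : rootOf j = j := by
  by_contra hne
  have hfix := fix_checks
  simp only [Bool.and_eq_true] at hfix
  have finish : ∀ {p tgt : ℕ} {L : List (List ℕ)} {W : List (ℕ × List (List ℕ × Bool))}, p < 1080 →
      fixesPt L p = true → leads p tgt L W j = true → el p = el j → el p = el tgt := by
    intro p tgt L W hp hL h e
    simp only [leads, List.any_eq_true, Bool.and_eq_true, Nat.beq_eq, beq_iff_eq] at h
    obtain ⟨x, -, hx, hw⟩ := h
    obtain ⟨hc, ec⟩ := chase_spec hp hL 8 hj e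
    rw [hx] at hw
    exact (walk_spec hp hc ec hp rfl hw).2
  by_cases h1 : j < 120
  · rw [rootOf, if_pos h1] at e hne
    have h := List.all_eq_true.1 leads_one j (List.mem_range.2 h1)
    simp only [Bool.or_eq_true, Nat.beq_eq] at h
    exact tested_ne.1 (finish (by norm_num) hfix.1 (h.resolve_left (Ne.symm hne)) e)
  · rw [rootOf, if_neg h1] at e hne
    have h := List.all_eq_true.1 leads_two (j - 120) (List.mem_range.2 (by omega))
    simp only [Bool.or_eq_true, Nat.beq_eq, show 120 + (j - 120) = j by omega] at h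
    exact tested_ne.2 (finish (by norm_num) hfix.2 (h.resolve_left fun h0 => hne (by omega)) e)

theorem inj_same {i j : ℕ} (hi : i < 1080) (hj : j < 1080) (hs : i < 120 ↔ j < 120) (e : el i = el j) :
    i = j := by
  obtain ⟨hw, hroot⟩ := repW_spec hi
  obtain ⟨hw', hinv⟩ := invP_spec hw
  set k := apP (invP (repW i)) j with hk
  have hk1 : k < 1080 := (actE_conj hw' hj).1
  have hside : k < 120 ↔ j < 120 := ((invP_spec hw').2 hj).2
  have hr : rootOf k = rootOf i := by simp only [rootOf, hside, hs]
  have e0 := el_translate hw' hi hj e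
  have hback : apP (invP (repW i)) i = rootOf i := by
    conv_lhs => arg 2; rw [← hroot]
    exact (hinv (rootOf_lt i)).1
  rw [hback, ← hr] at e0
  have hk0 := root_inj hk1 e0
  -- back along the inverse path
  have h2 := ((invP_spec hw').2 hi).1
  have h3 := ((invP_spec hw').2 hj).1
  rw [hback, ← hr, hk0] at h2
  exact h2.symm.trans h3

/-- The numbering is injective. -/
theorem el_inj {i j : ℕ} (hi : i < 1080) (hj : j < 1080) (e : el i = el j) : i = j := by
  suffices key : ∀ a b : ℕ, a < 120 → 120 ≤ b → b < 1080 → el a ≠ el b by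
    by_cases h1 : i < 120 <;> by_cases h2 : j < 120
    · exact inj_same hi hj (by simp [h1, h2]) e
    · exact absurd e (key i j h1 (by omega) hj)
    · exact absurd e.symm (key j i h2 (by omega) hi)
    · exact inj_same hi hj (by simp [h1, h2]) e
  intro a b ha hb hb' e
  have haN : a < 1080 := by omega
  obtain ⟨hw, hroot⟩ := repW_spec haN
  obtain ⟨hw', hinv⟩ := invP_spec hw
  set k := apP (invP (repW a)) b with hk
  have hk1 : k < 1080 := (actE_conj hw' hb').1
  have hk2 : 120 ≤ k := by
    have := ((invP_spec hw').2 hb').2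
    omega
  have hback : apP (invP (repW a)) a = 0 := by
    conv_lhs => arg 2; rw [← hroot]
    rw [(hinv (rootOf_lt a)).1, rootOf, if_pos ha]
  have e0 := el_translate hw' haN hb' e
  rw [hback] at e0
  have hm := List.all_eq_true.1 moves_checks (k - 120) (List.mem_range.2 (by omega))
  simp only [List.any_eq_true, Bool.not_eq_true', show 120 + (k - 120) = k by omega] at hm
  obtain ⟨s, hs, hne⟩ := hm
  have hfix := fix_checks
  simp only [Bool.and_eq_true] at hfix
  obtain ⟨hs5, hs0⟩ := fixes_of hfix.1 hs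
  have e1 := el_translate hs5 (by norm_num) hk1 e0
  rw [hs0] at e1
  have hside := ((invP_spec hs5).2 hk1).2
  have : k = apP s k := inj_same hk1 (actE_conj hs5 hk1).1 hside.symm (e0.symm.trans e1)
  rw [← this] at hne
  simp at hne

end CfsgLib.HNRec.Cz
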