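import Cfsg.Agent.Lib.HNRec.Cz.Model
import Cfsg.Agent.Lib.HNIndex.Simple

/-!
# Comparing words of the presented group in the representation of degree 133

Equal packed values give equal elements; different traces give elements which are not conjugate.
-/

set_option autoImplicit false
set_option maxRecDepth 100000

namespace CfsgLib.HNRec.Cz

open CfsgLib.HNxyz ModEleven
open Cfsg.Spor (HN)
open CfsgLib.HNIndex (hnGen)

attribute [local irreducible] matGens evalP idP lm rho

theorem matGens_okGen {g : ℕ} (hg : g < 8) : okGen 133 (matGens.getD g []) = true :=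
  List.all_eq_true.1 matGens_ok g (List.mem_range.2 hg)

theorem rho_hnL {g : ℕ} (hg : g < 8) :
    (rho (hnL g) : Matrix (Fin 133) (Fin 133) (ZMod 11)) = lm g := by
  interval_cases g <;> simp only [hnL, map_inv, hnGen] <;> rw [rho_of] <;> rfl

theorem rho_hW : ∀ {w : List ℕ}, (∀ g ∈ w, g < 8) →
    (rho (hW w) : Matrix (Fin 133) (Fin 133) (ZMod 11)) = (w.map lm).prod
  | [], _ => by simp [hW]
  | g :: w, h => by
    have := rho_hW (w := w) fun x hx => h x (List.mem_cons_of_mem _ hx)
    simp only [hW, List.map_cons, List.prod_cons, map_mul, Units.val_mul, rho_hnL (h g List.mem_cons_self)]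
    simp only [hW] at this
    rw [this]

/-- The letters of a word are in range. -/
def okW (w : List ℕ) : Bool := w.all fun g => Nat.blt g 8

theorem okW_iff {w : List ℕ} : okW w = true ↔ ∀ g ∈ w, g < 8 := by simp [okW, Nat.blt_eq]

/-- The diagonal sum of packed rows. -/
def trP : ℕ → List ℕ → ℕ
  | _, [] => 0
  | i, y :: Y => y / slotB ^ i % slotB + trP (i + 1) Y

theorem slot_pk : ∀ (l : List ℕ) (i : ℕ), (∀ a ∈ l, a < slotB) → pk l / slotB ^ i % slotB = l.getD i 0
  | [], i, _ => by simp [pk]
  | a :: l, 0, h => by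
    have := h a List.mem_cons_self
    simp only [pk, pow_zero, Nat.div_one, List.getD_cons_zero, Nat.add_mul_mod_self_left]
    exact Nat.mod_eq_of_lt this
  | a :: l, i + 1, h => by
    have ha := h a List.mem_cons_self
    rw [List.getD_cons_succ, ← slot_pk l i (fun b hb => h b (List.mem_cons_of_mem _ hb)), pk, pow_succ',
      ← Nat.div_div_eq_div_mul, Nat.add_mul_div_left _ _ (by norm_num [slotB]), Nat.div_eq_of_lt ha, zero_add]

theorem trP_sum : ∀ (Y : List (List ℕ)) (i : ℕ), (∀ y ∈ Y, ∀ a ∈ y, a < slotB) →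
    trP i (Y.map pk) = ∑ j ∈ Finset.range Y.length, (Y.getD j []).getD (i + j) 0
  | [], i, _ => by simp [trP]
  | y :: Y, i, h => by
    rw [List.map_cons, trP, trP_sum Y (i + 1) fun z hz => h z (List.mem_cons_of_mem _ hz),
      slot_pk y i (h y List.mem_cons_self), List.length_cons, Finset.sum_range_succ', add_comm]
    simp only [List.getD_cons_succ, List.getD_cons_zero, Nat.add_zero]
    congr 1
    exact Finset.sum_congr rfl fun j _ => by rw [show i + (j + 1) = i + 1 + j by omega]

/-- The trace of the value of a word. -/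
def trW (w : List ℕ) : ℕ := trP 0 (evalP 133 matGens w) % 11

theorem trW_spec {w : List ℕ} (hw : okW w = true) :
    Matrix.trace (rho (hW w) : Matrix (Fin 133) (Fin 133) (ZMod 11)) = ((trW w : ℕ) : ZMod 11) := by
  rw [okW_iff] at hw
  obtain ⟨e1, e2, e3, e4⟩ := eval_spec matGens mat_hid w fun g hg => matGens_okGen (hw g hg)
  rw [rho_hW hw, trW, ZMod.natCast_mod, e1, trP_sum _ _ fun y hy a ha =>
    lt_trans ((e2 y hy).2 a ha) (by norm_num [slotB]), e3, Nat.cast_sum, Finset.sum_range]
  unfold lm
  rw [← e4]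
  simp [Matrix.trace, toMat]

theorem trace_ne_one {g : Cfsg.Spor.HN} {k : ℕ}
    (h : Matrix.trace (rho g : Matrix (Fin 133) (Fin 133) (ZMod 11)) = (k : ZMod 11))
    (hk : k % 11 ≠ 1) : g ≠ 1 := by
  rintro rfl
  rw [map_one, Units.val_one, Matrix.trace_one, Fintype.card_fin, ZMod.natCast_eq_natCast_iff'] at h
  exact hk h.symm

theorem tr_checks : trW [0, 0] = 10 ∧ trW sWord = 5 := by
  unfold trW sWord
  decide +kernel

theorem not_conj : ¬ IsConj (hW [0, 0]) (hW sWord) := by
  intro h
  obtain ⟨c, hc⟩ := isConj_iff.1 h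
  have e : Matrix.trace (rho (hW [0, 0]) : Matrix (Fin 133) (Fin 133) (ZMod 11)) =
      Matrix.trace (rho (hW sWord) : Matrix (Fin 133) (Fin 133) (ZMod 11)) := by
    rw [← hc, map_mul, map_mul, map_inv, Units.val_mul, Units.val_mul, Matrix.trace_units_conj]
  rw [trW_spec (by decide), trW_spec (by decide), tr_checks.1, tr_checks.2] at e
  exact absurd e (by decide)

theorem rho_inj : Function.Injective rho := by
  haveI := CfsgLib.HNIndex.hn_isHN.1
  rw [← MonoidHom.ker_eq_bot_iff]
  refine (IsSimpleGroup.eq_bot_or_eq_top_of_normal _ (MonoidHom.normal_ker _)).resolve_right fun h => ?_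
  have hm : hW [0, 0] ∈ MonoidHom.ker rho := h ▸ Subgroup.mem_top _
  have e := trW_spec (w := [0, 0]) (by decide)
  rw [MonoidHom.mem_ker.1 hm, Units.val_one, Matrix.trace_one, tr_checks.1, Fintype.card_fin] at e
  exact absurd e (by decide)

/-- Two words with the same value. -/
def sameM (u v : List ℕ) : Bool := okW u && okW v && beqL (evalP 133 matGens u) (evalP 133 matGens v)

theorem hW_eq {u v : List ℕ} (h : sameM u v = true) : hW u = hW v := by
  simp only [sameM, Bool.and_eq_true] at h
  obtain ⟨⟨hu, hv⟩, he⟩ := h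
  rw [okW_iff] at hu hv
  refine rho_inj (Units.ext ?_)
  obtain ⟨a1, a2, a3, a4⟩ := eval_spec matGens mat_hid u fun g hg => matGens_okGen (hu g hg)
  obtain ⟨b1, b2, b3, b4⟩ := eval_spec matGens mat_hid v fun g hg => matGens_okGen (hv g hg)
  have hl := eq_of_beqL he
  rw [a1, b1] at hl
  have e : evalL 133 matGens u = evalL 133 matGens v := by
    refine List.ext_getElem (a3.trans b3.symm) fun i h1 h2 => ?_
    have hi := congrArg (fun l : List ℕ => l.getD i 0) hl
    simp [List.getD_eq_getElem?_getD, h1, h2] at hi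
    exact pk_inj (((a2 _ (List.getElem_mem h1)).1).trans ((b2 _ (List.getElem_mem h2)).1).symm)
      (a2 _ (List.getElem_mem h1)).2 (b2 _ (List.getElem_mem h2)).2 hi
  rw [rho_hW hu, rho_hW hv]
  unfold lm
  rw [← a4, ← b4, e]

end CfsgLib.HNRec.Cz
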