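import Cfsg.Agent.Lib.HNRec.Cz.Check
import Cfsg.Agent.Lib.HNRec.Cz.Mat

/-!
Conjugation by the five letters permutes the numbered elements as the tables say.
-/

set_option autoImplicit false
set_option maxRecDepth 100000

namespace CfsgLib.HNRec.Cz

open CfsgLib.CosetCert CfsgLib.HNxyz CfsgLib.HNAlt
open Cfsg.Spor (HN)

theorem hnL_eq : ∀ g, g < 8 → hnEl.getD g 1 = hnL g := by
  intro g hg
  interval_cases g <;> rfl

theorem hW_app (u v : List ℕ) : hW (u ++ v) = hW u * hW v := by simp [hW]

theorem oneW_spec {w : List ℕ} (h : oneW w = true) : hW w = 1 := by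
  refine rho_inj ?_
  rw [map_one]
  have hh := h
  simp only [oneW, Bool.and_eq_true, List.all_eq_true, Nat.blt_eq, matGens_len] at hh
  have e := img_base.rho_one (w := w) h
  rw [List.map_congr_left fun g hg => hnL_eq g (hh.1 g hg)] at e
  exact e

theorem hW_invL8 : ∀ w : List ℕ, (∀ g ∈ w, g < 8) → hW (invL8 w) = (hW w)⁻¹
  | [], _ => by simp [hW, invL8]
  | g :: w, hw => by
    have e : hnL (g ^^^ 1) = (hnL g)⁻¹ := by
      have := hw g (List.mem_cons_self ..)
      interval_cases g <;> simp [hnL]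
    have h := hW_invL8 w fun x hx => hw x (List.mem_cons_of_mem _ hx)
    rw [show invL8 (g :: w) = invL8 w ++ [g ^^^ 1] by simp [invL8], hW_app, h]
    simp [hW, e]

theorem letW_lt : ∀ g, ∀ x ∈ letW.getD g [], x < 8 := by
  intro g x hx
  rcases lt_or_ge g letW.length with hg | hg
  · rw [List.getD_eq_getElem _ _ hg] at hx
    exact (show ∀ l ∈ letW, ∀ x ∈ l, x < 8 by decide) _ (List.getElem_mem hg) x hx
  · rw [List.getD_eq_default _ _ hg] at hx; simp at hx

theorem words_lt : (∀ x ∈ sWord, x < 8) ∧ (∀ x ∈ eltOne, x < 8) ∧ (∀ x ∈ eltTwo, x < 8) := by decide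

theorem flatP_spec (w : List ℕ) : hW (flatP w) = actE w ∧ ∀ x ∈ flatP w, x < 8 := by
  induction w with
  | nil => simp [flatP, hW, actE]
  | cons g w ih =>
    have e : flatP (g :: w) = flatP w ++ letW.getD g [] := by simp [flatP]
    refine ⟨?_, fun x hx => ?_⟩
    · rw [e, hW_app, ih.1]; rfl
    · rw [e, List.mem_append] at hx
      exact hx.elim (ih.2 x) (letW_lt g x)

theorem actE_cons (g : ℕ) (w : List ℕ) : actE (g :: w) = actE w * gl g := rfl

theorem sE_mul_self : sE * sE = 1 := by
  have h := sq_checks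
  simp only [Bool.and_eq_true] at h
  have := oneW_spec h.1
  rwa [hW_app] at this

theorem commute_of_check {u v : List ℕ} (hu : ∀ x ∈ u, x < 8) (hv : ∀ x ∈ v, x < 8)
    (h : oneW (u ++ v ++ invL8 u ++ invL8 v) = true) : Commute (hW u) (hW v) := by
  have e := oneW_spec h
  rw [hW_app, hW_app, hW_app, hW_invL8 u hu, hW_invL8 v hv, mul_inv_eq_one, mul_inv_eq_iff_eq_mul] at e
  exact e

theorem gl_mem (g : ℕ) : gl g ∈ Subgroup.centralizer ({sE} : Set Cfsg.Spor.HN) := by
  rw [Subgroup.mem_centralizer_singleton_iff]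
  rcases lt_or_ge g 5 with hg | hg
  · have h := letter_checks g hg
    simp only [letterOk, Bool.and_eq_true] at h
    exact (commute_of_check (letW_lt g) words_lt.1 h.2).eq
  · have e : letW.getD g [] = [] := List.getD_eq_default _ _ hg
    simp only [gl]
    rw [e]
    simp [hW]

theorem gl_inv {g : ℕ} (hg : g < 5) : gl (iv g) = (gl g)⁻¹ := by
  have h := letter_checks g hg
  simp only [letterOk, Bool.and_eq_true] at h
  have e := oneW_spec h.1
  rw [hW_app] at e
  exact (inv_eq_of_mul_eq_one_right e).symm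

/-- The group on which the letters act by conjugation. -/
abbrev Zs : Subgroup Cfsg.Spor.HN := Subgroup.centralizer ({sE} : Set Cfsg.Spor.HN)

/-- A letter in the centraliser. -/
noncomputable def glZ (g : ℕ) : ↥Zs := ⟨gl g, gl_mem g⟩

/-- A letter as an automorphism of the centraliser. -/
noncomputable def genA (g : ℕ) : MulAut ↥Zs := MulAut.conj (glZ g)

theorem act_genA : ∀ w : List ℕ, ∀ h : actE w ∈ Zs, CosetCert.act genA w = MulAut.conj ⟨actE w, h⟩
  | [], h => by
    rw [CosetCert.act_nil, show (⟨actE [], h⟩ : ↥Zs) = 1 from rfl, map_one]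
  | g :: w, h => by
    have hw : actE w ∈ Zs := by
      have := mul_mem h (inv_mem (gl_mem g))
      rwa [actE_cons, mul_inv_cancel_right] at this
    rw [CosetCert.act_cons, act_genA w hw, genA, ← map_mul]
    rfl

theorem actE_mem : ∀ w : List ℕ, actE w ∈ Zs
  | [] => Zs.one_mem
  | g :: w => by rw [actE_cons]; exact mul_mem (actE_mem w) (gl_mem g)

theorem smul_val (w : List ℕ) (p : ↥Zs) :
    ((CosetCert.act genA w • p : ↥Zs) : Cfsg.Spor.HN) = actE w * p.1 * (actE w)⁻¹ := by
  rw [act_genA w (actE_mem w)]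
  rfl

theorem rel_holds {w : List ℕ} (hw : w ∈ relT.map Prod.fst) : CosetCert.act genA w = 1 := by
  obtain ⟨r, hr, rfl⟩ := List.mem_map.1 hw
  obtain ⟨k, hk, hkr⟩ := List.mem_iff_getElem.1 hr
  have h := rel_checks k (list_lengths.1 ▸ hk)
  simp only [relOk, List.getD_eq_getElem _ _ hk, hkr, Bool.and_eq_true] at h
  have e := oneW_spec h.2
  rw [hW_app, (flatP_spec r.1).1] at e
  refine MulEquiv.ext fun p => Subtype.ext ?_
  rw [show (CosetCert.act genA r.1) p = CosetCert.act genA r.1 • p from rfl, smul_val]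
  show actE r.1 * p.1 * (actE r.1)⁻¹ = p.1
  have hp : sE * p.1 = p.1 * sE := (Subgroup.mem_centralizer_singleton_iff.1 p.2).symm
  cases hb : r.2 with
  | false =>
    rw [hb] at e
    rw [show hW (if false = true then sWord else []) = 1 from rfl, mul_one] at e
    rw [e]; simp
  | true =>
    rw [hb, show hW (if true = true then sWord else []) = sE from rfl] at e
    have e' : actE r.1 = sE := by
      rw [eq_inv_of_mul_eq_one_left e]
      exact inv_eq_of_mul_eq_one_right sE_mul_self
    rw [e', hp, mul_inv_cancel_right]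

theorem sub_holds {a : List ℕ} (ha : ∀ x ∈ a, x < 8) (hm : hW a ∈ Zs) {r : List ℕ}
    (h : oneW (flatP r ++ a ++ invL8 (flatP r) ++ invL8 a) = true) :
    CosetCert.act genA r • (⟨hW a, hm⟩ : ↥Zs) = ⟨hW a, hm⟩ := by
  refine Subtype.ext ?_
  rw [smul_val]
  show actE r * hW a * (actE r)⁻¹ = hW a
  have e := commute_of_check (flatP_spec r).2 ha h
  rw [(flatP_spec r).1] at e
  rw [e.eq, mul_inv_cancel_right]

theorem elt_mem : hW eltOne ∈ Zs ∧ hW eltTwo ∈ Zs := by
  have h := List.all_eq_true.1 elt_checks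
  exact ⟨Subgroup.mem_centralizer_singleton_iff.2
      (commute_of_check words_lt.2.1 words_lt.1 (h eltOne (by simp))).eq,
    Subgroup.mem_centralizer_singleton_iff.2
      (commute_of_check words_lt.2.2 words_lt.1 (h eltTwo (by simp))).eq⟩

theorem el_one {i : ℕ} (hi : i < 120) :
    el i = (CosetCert.pt dataOne genA (⟨hW eltOne, elt_mem.1⟩ : ↥Zs) i).1 := by
  rw [CosetCert.pt, smul_val]
  simp [el, repW, baseElt, dataOne, hi]

theorem el_two {i : ℕ} (hi : i < 960) :
    el (120 + i) = (CosetCert.pt dataTwo genA (⟨hW eltTwo, elt_mem.2⟩ : ↥Zs) i).1 := by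
  rw [CosetCert.pt, smul_val]
  simp [el, repW, baseElt, dataTwo]

/-- The tables are right. -/
theorem conj_el {g i : ℕ} (hg : g < 5) (hi : i < 1080) :
    actN g i < 1080 ∧ gl g * el i * (gl g)⁻¹ = el (actN g i) := by
  have hs1 : ∀ r ∈ subsOne, oneW (flatP r ++ eltOne ++ invL8 (flatP r) ++ invL8 eltOne) = true := by
    intro r hr
    obtain ⟨k, hk, rfl⟩ := List.mem_iff_getElem.1 hr
    have h := subOne_checks k (list_lengths.2.1 ▸ hk)
    simp only [subOk, List.getD_eq_getElem _ _ hk, Bool.and_eq_true] at h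
    exact h.2
  have hs2 : ∀ r ∈ subsTwo, oneW (flatP r ++ eltTwo ++ invL8 (flatP r) ++ invL8 eltTwo) = true := by
    intro r hr
    obtain ⟨k, hk, rfl⟩ := List.mem_iff_getElem.1 hr
    have h := subTwo_checks k (list_lengths.2.2 ▸ hk)
    simp only [subOk, List.getD_eq_getElem _ _ hk, Bool.and_eq_true] at h
    exact h.2
  have hiv : ∀ k, k < 5 → genA (iv k) = (genA k)⁻¹ := fun k hk => by
    rw [genA, genA, ← map_inv]
    exact congrArg MulAut.conj (Subtype.ext (gl_inv hk))
  by_cases h1 : i < 120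
  · obtain ⟨-, hT⟩ := CosetCert.check_sound (C := dataOne) (gen := genA) (x₀ := (⟨hW eltOne, elt_mem.1⟩ : ↥Zs))
      one_check hiv (fun w hw => rel_holds hw)
      (fun r hr => sub_holds words_lt.2.1 elt_mem.1 (hs1 r hr))
    obtain ⟨hlt, e⟩ := hT i g h1 hg
    have hlt' : tblGet tblOne i g < 120 := hlt
    refine ⟨by simp only [actN, if_pos h1]; omega, ?_⟩
    rw [el_one h1, show actN g i = tblGet tblOne i g from if_pos h1, el_one hlt']
    exact congrArg Subtype.val e
  · obtain ⟨-, hT⟩ := CosetCert.check_sound (C := dataTwo) (gen := genA) (x₀ := (⟨hW eltTwo, elt_mem.2⟩ : ↥Zs))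
      two_check hiv (fun w hw => rel_holds hw)
      (fun r hr => sub_holds words_lt.2.2 elt_mem.2 (hs2 r hr))
    obtain ⟨j, rfl⟩ : ∃ j, i = 120 + j := ⟨i - 120, by omega⟩
    obtain ⟨hlt, e⟩ := hT j g (show j < 960 by omega) hg
    have hlt' : tblGet tblTwo j g < 960 := hlt
    have ha : actN g (120 + j) = 120 + tblGet tblTwo j g := by simp [actN]
    refine ⟨by rw [ha]; omega, ?_⟩
    rw [el_two (by omega), ha, el_two hlt']
    exact congrArg Subtype.val e

end CfsgLib.HNRec.Cz
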