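import Cfsg.Agent.Lib.HNRec.Cz.SylOk
import Mathlib.GroupTheory.Sylow

/-!
# A Sylow two-subgroup inside the centraliser of the second involution

Every involution of the presented group is conjugate into it, and each of its involutions is one of the
numbered elements or conjugate to the second involution.
-/

set_option autoImplicit false
set_option maxRecDepth 100000

namespace CfsgLib.HNRec.Cz

open CfsgLib.HNxyz ModEleven
open Cfsg.Spor (HN)
open CfsgLib.HNIndex (hnGen)

attribute [local irreducible] matGens evalP idP rho actP sylE sameM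

theorem hW_append (u v : List ℕ) : hW (u ++ v) = hW u * hW v := by
  simp [hW, List.prod_append]

/-- The value of a word in the five letters. -/
noncomputable def W5 (w : List ℕ) : Cfsg.Spor.HN := (w.map gl).prod

theorem W5_append (u v : List ℕ) : W5 (u ++ v) = W5 u * W5 v := by simp [W5, List.prod_append]

theorem hW_flatW : ∀ w : List ℕ, hW (flatW w) = W5 w
  | [] => by simp [flatW, hW, W5]
  | g :: w => by
    rw [show flatW (g :: w) = letW.getD g [] ++ flatW w from by simp [flatW], hW_append, hW_flatW w]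
    simp [W5, gl]

theorem a2_sq : sameM (letW.getD 4 [] ++ letW.getD 4 []) [] = true := by
  unfold sameM
  decide +kernel

/-- The inverse of a letter is its reversed inverse word. -/
theorem let_iv : ((List.range 4).all fun g => decide (letW.getD (iv g) [] = invH (letW.getD g []))) = true := by
  decide

theorem hnL_flip : ∀ {g : ℕ}, g < 8 → hnL (if g % 2 = 0 then g + 1 else g - 1) = (hnL g)⁻¹ := by
  intro g hg
  interval_cases g <;> simp [hnL]

theorem hW_invH : ∀ {w : List ℕ}, (∀ g ∈ w, g < 8) → hW (invH w) = (hW w)⁻¹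
  | [], _ => by simp [invH, hW]
  | g :: w, h => by
    have e : invH (g :: w) = invH w ++ [if g % 2 = 0 then g + 1 else g - 1] := by simp [invH]
    rw [e, hW_append, hW_invH fun x hx => h x (List.mem_cons_of_mem _ hx)]
    simp [hW, hnL_flip (h g List.mem_cons_self)]

theorem gl_iv {g : ℕ} (hg : g < 5) : gl (iv g) = (gl g)⁻¹ ∧ iv g < 5 := by
  refine ⟨?_, by interval_cases g <;> decide⟩
  by_cases h4 : g = 4
  · subst h4
    rw [show iv 4 = 4 by decide]
    have e := hW_eq a2_sq
    rw [hW_append, show hW [] = 1 by simp [hW]] at e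
    exact eq_inv_of_mul_eq_one_left e
  · have h := of_decide_eq_true (List.all_eq_true.1 let_iv g (List.mem_range.2 (by omega)))
    rw [gl, gl, h, hW_invH]
    interval_cases g <;> decide

theorem W5_ivW : ∀ {w : List ℕ}, (∀ g ∈ w, g < 5) → W5 (ivW w) = (W5 w)⁻¹
  | [], _ => by simp [ivW, W5]
  | g :: w, h => by
    have e : ivW (g :: w) = ivW w ++ [iv g] := by simp [ivW]
    rw [e, W5_append, W5_ivW fun x hx => h x (List.mem_cons_of_mem _ hx)]
    simp [W5, (gl_iv (h g List.mem_cons_self)).1]

theorem ivW_lt {w : List ℕ} (h : ∀ g ∈ w, g < 5) : ∀ g ∈ ivW w, g < 5 := by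
  intro g hg
  simp only [ivW, List.mem_map, List.mem_reverse] at hg
  obtain ⟨x, hx, rfl⟩ := hg
  exact (gl_iv (h x hx)).2

theorem gl_comm {g : ℕ} (hg : g < 5) : Commute (gl g) sE := by
  have h := hW_eq (List.all_eq_true.1 s_cent g (List.mem_range.2 hg))
  rw [hW_append, hW_append] at h
  exact h

theorem W5_comm : ∀ {w : List ℕ}, (∀ g ∈ w, g < 5) → Commute (W5 w) sE
  | [], _ => by simp [W5]
  | g :: w, h => by
    rw [show W5 (g :: w) = gl g * W5 w by simp [W5]]
    exact (gl_comm (h g List.mem_cons_self)).mul_left (W5_comm fun x hx => h x (List.mem_cons_of_mem _ hx))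

theorem W5_mem : ∀ {w : List ℕ}, (∀ g ∈ w, g < 5) → W5 w ∈ K
  | [], _ => by simp [W5]
  | g :: w, h => by
    rw [show W5 (g :: w) = gl g * W5 w by simp [W5]]
    exact mul_mem (Subgroup.subset_closure ⟨g, h g List.mem_cons_self, rfl⟩)
      (W5_mem fun x hx => h x (List.mem_cons_of_mem _ hx))

theorem sE_sq : sE * sE = 1 := by
  have h := hW_eq s_sq
  rwa [hW_append, show hW [] = 1 by simp [hW]] at h

theorem sE_ne : sE ≠ 1 := trace_ne_one (trW_spec (w := sWord) (by decide)) (by rw [tr_checks.2]; decide)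

/-- What is used about the numbered elements. -/
structure Sound : Prop where
  act_el : ∀ g < 5, ∀ i < 1080, actN g i < 1080 ∧ gl g * el i * (gl g)⁻¹ = el (actN g i)
  inj : ∀ i < 1080, ∀ j < 1080, el i = el j → i = j
  s_mem : sE ∈ K
  faith : ∀ g ∈ K, (∀ b ∈ [0, 122, 136], Commute g (el b)) → g ∈ Subgroup.zpowers sE

theorem el_zero : el 0 = hW [0, 0] := by
  have h : repW 0 = [] ∧ baseElt 0 = [0, 0] := by decide
  rw [el, h.1, h.2, actE, CosetCert.act_nil]
  group

theorem el_first : el 120 = W5 [4] := by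
  have h : repW 120 = [] ∧ baseElt 120 = letW.getD 4 [] := by decide
  rw [el, h.1, h.2, actE, CosetCert.act_nil]
  simp [W5, gl]

theorem actE_eq : ∀ w : List ℕ, actE w = W5 w.reverse
  | [] => by simp [actE, W5]
  | g :: w => by
    have := actE_eq w
    rw [actE] at this
    rw [actE, CosetCert.act_cons, this, List.reverse_cons, W5_append]
    simp [W5]

theorem el_cube : el 58 = W5 (repC.getD 0 []) := by
  have h : baseElt 58 = [0, 0] ∧ ((repW 58).all fun g => Nat.blt g 5) = true := by decide
  have e := hW_eq cube_eq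
  have hlt : ∀ x ∈ flatW (repW 58).reverse, x < 8 := by decide
  rw [hW_append, hW_append, hW_invH hlt, hW_flatW, hW_flatW] at e
  rw [el, actE_eq, h.1, e]

theorem rep_s : sameM (flatW (repC.getD 0 []) ++ sWord) [0, 0] = true := by
  unfold sameM
  decide +kernel

theorem el_zero' : el 0 = W5 (repC.getD 0 []) * sE := by
  rw [el_zero, ← hW_flatW, sE, ← hW_append]
  exact (hW_eq rep_s).symm

theorem conj_first : IsConj (hW [0, 0]) (el 120) := by
  have e := hW_eq witTwo_ok
  rw [hW_append, hW_append, hW_invH (by decide), hW_flatW] at e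
  rw [el_first]
  exact (isConj_iff.2 ⟨_, e⟩).symm

theorem actB_eq {g i : ℕ} (hg : g < 5) (hi : i < 1080) : actB g i = actN g i :=
  Nat.eq_of_beq_eq_true (List.all_eq_true.1 (List.all_eq_true.1 act_ok g (List.mem_range.2 hg)) i
    (List.mem_range.2 hi))

theorem pack_inj {x y z x' y' z' : ℕ} (hx : x < 2048) (hy : y < 2048) (hx' : x' < 2048) (hy' : y' < 2048)
    (h : packK x y z = packK x' y' z') : x = x' ∧ y = y' ∧ z = z' := by
  unfold packK at h
  omega

section
variable (H : Sound)
include H

theorem evB_el : ∀ {w : List ℕ}, (∀ g ∈ w, g < 5) → ∀ {x : ℕ}, x < 1080 →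
    evB w x < 1080 ∧ W5 w * el x * (W5 w)⁻¹ = el (evB w x)
  | [], _, x, hx => by simp [evB, W5, hx]
  | g :: w, hw, x, hx => by
    obtain ⟨h1, h2⟩ := evB_el (fun a ha => hw a (List.mem_cons_of_mem _ ha)) hx
    obtain ⟨h3, h4⟩ := H.act_el g (hw g List.mem_cons_self) _ h1
    have e : evB (g :: w) x = actN g (evB w x) := by
      show actB g (evB w x) = _
      exact actB_eq (hw g List.mem_cons_self) h1
    rw [e]
    refine ⟨h3, ?_⟩
    rw [← h4, ← h2, show W5 (g :: w) = gl g * W5 w by simp [W5]]
    group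

theorem el_comm {x : ℕ} (hx : x < 1080) : Commute (el x) sE := by
  have h0 : Commute (hW [0, 0]) sE := by
    have hv : W5 (repC.getD 0 []) * sE = hW [0, 0] := el_zero'.symm.trans el_zero
    rw [← hv]
    exact (W5_comm (by decide)).mul_left (Commute.refl _)
  have hh : Commute (hW (baseElt x)) sE := by
    rw [baseElt]
    split_ifs
    · exact h0
    · have : hW eltTwo = gl 4 := by
        rw [gl, show eltTwo = letW.getD 4 [] by decide]
      rw [this]
      exact gl_comm (by norm_num)
  have hl : ∀ g ∈ (repW x).reverse, g < 5 := by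
    intro g hg
    rw [List.mem_reverse] at hg
    exact rep_lt hx g hg
  have hc := W5_comm hl
  rw [el, actE_eq]
  exact (hc.mul_left hh).mul_left hc.inv_left

theorem key_eq {u v : List ℕ} (hu : ∀ g ∈ u, g < 5) (hv : ∀ g ∈ v, g < 5) (h : keyB u = keyB v) :
    W5 u = W5 v ∨ W5 u = W5 v * sE := by
  have lt : ∀ {w : List ℕ}, (∀ g ∈ w, g < 5) → ∀ {x : ℕ}, x < 1080 → evB w x < 2048 := fun {w} hw {x} hx =>
    lt_trans (evB_el H hw hx).1 (by norm_num)
  obtain ⟨a, b, c⟩ := pack_inj (lt hu (by norm_num)) (lt hu (by norm_num)) (lt hv (by norm_num))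
    (lt hv (by norm_num)) h
  have hm : (W5 v)⁻¹ * W5 u ∈ Subgroup.zpowers sE := by
    refine H.faith _ (mul_mem (inv_mem (W5_mem hv)) (W5_mem hu)) fun p hp => ?_
    have hp' : p < 1080 ∧ evB u p = evB v p := by
      simp only [List.mem_cons, List.not_mem_nil, or_false] at hp
      rcases hp with rfl | rfl | rfl
      exacts [⟨by norm_num, a⟩, ⟨by norm_num, b⟩, ⟨by norm_num, c⟩]
    have e1 := (evB_el H hu hp'.1).2
    rw [hp'.2, ← (evB_el H hv hp'.1).2] at e1
    show (W5 v)⁻¹ * W5 u * el p = el p * ((W5 v)⁻¹ * W5 u)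
    calc (W5 v)⁻¹ * W5 u * el p = (W5 v)⁻¹ * (W5 u * el p * (W5 u)⁻¹) * W5 u := by group
      _ = (W5 v)⁻¹ * (W5 v * el p * (W5 v)⁻¹) * W5 u := by rw [e1]
      _ = el p * ((W5 v)⁻¹ * W5 u) := by group
  obtain ⟨n, hn⟩ := Subgroup.mem_zpowers_iff.1 hm
  rcases Int.even_or_odd n with ⟨m, rfl⟩ | ⟨m, rfl⟩
  · left
    rw [show sE ^ (m + m) = (sE * sE) ^ m by rw [← two_mul, zpow_mul, zpow_two], sE_sq, one_zpow,
      eq_inv_mul_iff_mul_eq, mul_one] at hn
    exact hn.symm
  · right
    rw [zpow_add, zpow_mul, zpow_two, sE_sq, one_zpow, one_mul, zpow_one] at hn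
    rw [hn, mul_inv_cancel_left]

theorem key_of_eq {u v : List ℕ} (hu : ∀ g ∈ u, g < 5) (hv : ∀ g ∈ v, g < 5)
    (h : W5 u = W5 v ∨ W5 u = W5 v * sE) : keyB u = keyB v := by
  have key : ∀ {x : ℕ}, x < 1080 → evB u x = evB v x := fun {x} hx => by
    obtain ⟨u1, u2⟩ := evB_el H hu hx
    obtain ⟨v1, v2⟩ := evB_el H hv hx
    refine H.inj _ u1 _ v1 ?_
    rw [← u2, ← v2]
    rcases h with h | h
    · rw [h]
    · rw [h, mul_inv_rev, mul_assoc (W5 v) sE, ← (el_comm H hx).eq]
      group
  simp only [keyB, key (show 0 < 1080 by norm_num), key (show 122 < 1080 by norm_num),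
    key (show 136 < 1080 by norm_num)]

theorem mapK_key {u w : List ℕ} (hw : ∀ g ∈ w, g < 5) : mapK u (keyB w) = keyB (u ++ w) := by
  have l1 := (evB_el H hw (show 0 < 1080 by norm_num)).1
  have l2 := (evB_el H hw (show 122 < 1080 by norm_num)).1
  have e : keyB w % 2048 = evB w 0 ∧ keyB w / 2048 % 2048 = evB w 122 ∧ keyB w / 4194304 = evB w 136 := by
    simp only [keyB, packK]
    omega
  obtain ⟨e1, e2, e3⟩ := e
  simp only [mapK, e1, e2, e3]
  simp [keyB, evB, List.foldr_append]

end

/-- The word of an entry. -/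
def sWd (i : ℕ) : List ℕ := eWord (sylE i)

/-- The element of an entry. -/
noncomputable def sv (i : ℕ) : Cfsg.Spor.HN := W5 (sWd i)

/-- The Sylow subgroup. -/
noncomputable def SS : Subgroup Cfsg.Spor.HN :=
  Subgroup.closure (((fun g => W5 (sylGen.getD g [])) '' Set.Iio 4) ∪ {sE})

theorem gen_lt {g : ℕ} (hg : g < 4) : ∀ x ∈ sylGen.getD g [], x < 5 := by
  interval_cases g <;> decide

theorem entry {i : ℕ} (hi : i < 8192) :
    (∀ g ∈ sWd i, g < 5) ∧ keyB (sWd i) = eKey (sylE i) ∧
    (i ≠ 8191 → eKey (sylE i) < eKey (sylE (i + 1))) ∧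
    chkIdx (sylE i) = true ∧ chkPar i (sylE i) = true ∧ chkCls (sylE i) = true := by
  have h := syl_ok hi
  simp only [chkI, Bool.and_eq_true, Bool.or_eq_true, Nat.beq_eq, Nat.blt_eq, ok5, List.all_eq_true] at h
  obtain ⟨⟨⟨⟨⟨h1, h2⟩, h3⟩, h4⟩, h5⟩, h6⟩ := h
  exact ⟨h1, h2, fun hne => h3.resolve_left hne, h4, h5, h6⟩

theorem eKey_inj {i j : ℕ} (hi : i < 8192) (hj : j < 8192)
    (h : eKey (sylE i) = eKey (sylE j)) : i = j := by
  have mono : ∀ d i : ℕ, i + d + 1 < 8192 → eKey (sylE i) < eKey (sylE (i + d + 1)) := by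
    intro d
    induction d with
    | zero => intro i hd; exact (entry (by omega)).2.2.1 (by omega)
    | succ d ih =>
      intro i hd
      exact lt_trans (ih i (by omega)) ((entry (by omega)).2.2.1 (by omega))
  rcases Nat.lt_trichotomy i j with l | l | l
  · have := mono (j - i - 1) i (by omega)
    rw [show i + (j - i - 1) + 1 = j by omega, h] at this
    exact absurd this (lt_irrefl _)
  · exact l
  · have := mono (i - j - 1) j (by omega)
    rw [show j + (i - j - 1) + 1 = i by omega, h] at this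
    exact absurd this (lt_irrefl _)

theorem root_key : keyB [] = packK 0 122 136 := by simp [keyB, evB]

theorem b_conj {w : Cfsg.Spor.HN} {v k : List ℕ} (hk : ∀ g ∈ k, g < 8) {t : List ℕ}
    (h : sameM (k ++ v ++ invH k) t = true) (hw : hW v = w) : IsConj w (hW t) := by
  have e := hW_eq h
  rw [hW_append, hW_append, hW_invH hk, hw] at e
  exact isConj_iff.2 ⟨_, e⟩

section
variable (H : Sound)
include H

theorem SS_le : SS ≤ K := by
  refine (Subgroup.closure_le _).2 (Set.union_subset ?_ (Set.singleton_subset_iff.2 H.s_mem))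
  rintro _ ⟨g, hg, rfl⟩
  exact W5_mem (gen_lt hg)

theorem exists_word {g : Cfsg.Spor.HN} (hg : g ∈ K) : ∃ w : List ℕ, (∀ a ∈ w, a < 5) ∧ W5 w = g := by
  induction hg using Subgroup.closure_induction with
  | mem x hx =>
    obtain ⟨a, ha, rfl⟩ := hx
    exact ⟨[a], by simpa using ha, by simp [W5]⟩
  | one => exact ⟨[], by simp, by simp [W5]⟩
  | mul x y _ _ hx hy =>
    obtain ⟨u, hu, rfl⟩ := hx
    obtain ⟨v, hv, rfl⟩ := hy
    exact ⟨u ++ v, fun a ha => (List.mem_append.1 ha).elim (hu a) (hv a), W5_append u v⟩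
  | inv x _ hx =>
    obtain ⟨u, hu, rfl⟩ := hx
    exact ⟨ivW u, ivW_lt hu, W5_ivW hu⟩

theorem sE_mem_SS : sE ∈ SS := Subgroup.subset_closure (Or.inr rfl)

theorem step {i g : ℕ} (hi : i < 8192) (hg : g < 4) :
    W5 (sylGen.getD g []) * sv i = sv (eIdx (sylE i) g) ∨
      W5 (sylGen.getD g []) * sv i = sv (eIdx (sylE i) g) * sE := by
  obtain ⟨h1, h2, -, h4, -, -⟩ := entry hi
  simp only [chkIdx, List.all_eq_true, Nat.beq_eq, List.mem_range] at h4
  have hj : eIdx (sylE i) g < 8192 := Nat.mod_lt _ (by norm_num)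
  obtain ⟨j1, j2, -, -, -, -⟩ := entry hj
  have hgl := gen_lt hg
  have hc : ∀ x ∈ sylGen.getD g [] ++ sWd i, x < 5 := fun x hx => by
    rcases List.mem_append.1 hx with hx | hx
    exacts [hgl x hx, h1 x hx]
  have e : keyB (sylGen.getD g [] ++ sWd i) = keyB (sWd (eIdx (sylE i) g)) := by
    rw [← mapK_key H h1, j2, h4 g hg, h2]
  have := key_eq H hc j1 e
  rwa [W5_append] at this

theorem sv_mem : ∀ {i : ℕ}, i < 8192 → sv i ∈ SS := by
  suffices h : ∀ r i, i < 8192 → eRank (sylE i) = r → sv i ∈ SS from fun {i} hi => h _ i hi rfl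
  intro r
  induction r using Nat.strong_induction_on with
  | _ r ih =>
    intro i hi hr
    obtain ⟨h1, h2, -, -, h5, -⟩ := entry hi
    simp only [chkPar] at h5
    split_ifs at h5 with hp
    · rw [Nat.beq_eq] at h5
      have e : keyB (sWd i) = keyB [] := by rw [h2, h5, root_key]
      rcases key_eq H h1 (by simp) e with e' | e'
      · rw [sv, e']; exact one_mem _
      · rw [sv, e']; exact mul_mem (one_mem _) (sE_mem_SS H)
    · simp only [Bool.and_eq_true, Nat.blt_eq, Nat.beq_eq] at h5
      obtain ⟨⟨hg, hrk⟩, hidx⟩ := h5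
      have hp' : ePar (sylE i) < 8192 := Nat.mod_lt _ (by norm_num)
      have hm := ih _ (hr ▸ hrk) _ hp' rfl
      have hgen : W5 (sylGen.getD (ePg (sylE i) - 1) []) ∈ SS :=
        Subgroup.subset_closure (Or.inl ⟨_, hg, rfl⟩)
      have := step H hp' hg
      rw [hidx] at this
      rcases this with e | e
      · rw [← e]; exact mul_mem hgen hm
      · have h' := mul_mem (mul_mem hgen hm) (sE_mem_SS H)
        rwa [e, mul_assoc, sE_sq, mul_one] at h'

theorem SS_cases {g : Cfsg.Spor.HN} (hg : g ∈ SS) : ∃ i < 8192, g = sv i ∨ g = sv i * sE := by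
  haveI := CfsgLib.HNIndex.hn_finite
  let T : Cfsg.Spor.HN → Prop := fun g => ∃ i < 8192, g = sv i ∨ g = sv i * sE
  have hmul : ∀ x ∈ ((fun g => W5 (sylGen.getD g [])) '' Set.Iio 4) ∪ {sE}, ∀ y, T y → T (x * y) := by
    rintro x (⟨a, ha, rfl⟩ | rfl) y ⟨i, hi, hy⟩
    · have hj : eIdx (sylE i) a < 8192 := Nat.mod_lt _ (by norm_num)
      refine ⟨_, hj, ?_⟩
      rcases hy with rfl | rfl <;> rcases step H hi ha with e | e
      · exact Or.inl e
      · exact Or.inr e
      · right; simp only [← mul_assoc, e]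
      · left; simp only [← mul_assoc, e]; rw [mul_assoc, sE_sq, mul_one]
    · refine ⟨i, hi, ?_⟩
      have hc := (W5_comm (entry hi).1).eq
      rcases hy with rfl | rfl
      · exact Or.inr hc.symm
      · left
        rw [← mul_assoc, sv, ← hc, mul_assoc, sE_sq, mul_one]
  have hpow : ∀ x ∈ ((fun g => W5 (sylGen.getD g [])) '' Set.Iio 4) ∪ {sE}, ∀ (n : ℕ) (y : Cfsg.Spor.HN),
      T y → T (x ^ n * y) := by
    intro x hx n
    induction n with
    | zero => intro y hy; simpa using hy
    | succ n ih => intro y hy; rw [pow_succ, mul_assoc]; exact ih _ (hmul x hx y hy)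
  have h0 : T 1 := by
    obtain ⟨i, hi, e⟩ : ∃ i < 8192, keyB (sWd i) = keyB [] := by
      refine ⟨192, by norm_num, ?_⟩
      rw [(entry (by norm_num)).2.1, root_key]
      exact Nat.eq_of_beq_eq_true root_ok
    refine ⟨i, hi, ?_⟩
    rcases key_eq H (entry hi).1 (by simp) e with e' | e'
    · exact Or.inl (by rw [sv, e']; simp [W5])
    · exact Or.inr (by rw [sv, e', mul_assoc, sE_sq]; simp [W5])
  induction hg using Subgroup.closure_induction_left with
  | one => exact h0
  | mul_left x hx y _ hy => exact hmul x hx y hy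
  | inv_mul_cancel x hx y _ hy =>
    have e : x⁻¹ = x ^ (orderOf x - 1) := by
      refine inv_eq_of_mul_eq_one_right ?_
      rw [← pow_succ', Nat.sub_add_cancel (orderOf_pos x), pow_orderOf_eq_one]
    rw [e]
    exact hpow x hx _ y hy

theorem card_SS : Nat.card SS = 2 ^ 14 := by
  haveI := CfsgLib.HNIndex.hn_finite
  let φ : Fin 8192 × Bool → SS := fun p =>
    ⟨if p.2 then sv p.1 * sE else sv p.1, by
      split_ifs
      exacts [mul_mem (sv_mem H p.1.isLt) (sE_mem_SS H), sv_mem H p.1.isLt]⟩
  have hφ : Function.Bijective φ := by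
    constructor
    · rintro ⟨i, a⟩ ⟨j, b⟩ h
      have h' := congrArg Subtype.val h
      simp only [φ] at h'
      obtain ⟨i1, i2, -⟩ := entry i.isLt
      obtain ⟨j1, j2, -⟩ := entry j.isLt
      have hor : sv i = sv j ∨ sv i = sv j * sE := by
        cases a <;> cases b <;> simp only [Bool.false_eq_true, if_true, if_false] at h'
        · exact Or.inl h'
        · exact Or.inr h'
        · right; rw [← h', mul_assoc, sE_sq, mul_one]
        · exact Or.inl (mul_right_cancel h')
      have hij : i = j := Fin.ext (eKey_inj i.isLt j.isLt (by rw [← i2, ← j2]; exact key_of_eq H i1 j1 hor))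
      subst hij
      cases a <;> cases b <;> simp at h' <;> first | rfl | exact absurd h' sE_ne | exact absurd h'.symm sE_ne
    · rintro ⟨g, hg⟩
      obtain ⟨i, hi, e | e⟩ := SS_cases H hg
      · exact ⟨(⟨i, hi⟩, false), Subtype.ext e.symm⟩
      · exact ⟨(⟨i, hi⟩, true), Subtype.ext e.symm⟩
  rw [← Nat.card_congr (Equiv.ofBijective φ hφ), Nat.card_prod, Nat.card_fin]
  simp

/-- An involution of the Sylow subgroup. -/
theorem inv_cases {w : Cfsg.Spor.HN} (hw : w ∈ SS) (h1 : w ≠ 1) (h2 : w * w = 1) :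
    (∃ i < 1080, el i = w) ∨ IsConj w sE := by
  obtain ⟨i, hi, hwi⟩ := SS_cases H hw
  obtain ⟨l1, k2, -, -, -, h6⟩ := entry hi
  have hc := W5_comm l1
  have hsq : sv i * sv i = 1 := by
    rcases hwi with rfl | rfl
    · exact h2
    · have e : sv i * sE * (sv i * sE) = sv i * (sE * sv i) * sE := by group
      rw [e, show sE * sv i = sv i * sE from hc.eq.symm, ← mul_assoc, mul_assoc, sE_sq, mul_one] at h2
      exact h2
  simp only [chkCls] at h6
  split_ifs at h6 with c0 c7
  · exfalso
    have e : keyB (sWd i ++ sWd i) = keyB [] := by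
      refine key_of_eq H (fun x hx => (List.mem_append.1 hx).elim (l1 x) (l1 x)) (by simp) (Or.inl ?_)
      rw [W5_append]
      simpa [W5, sv] using hsq
    rw [root_key] at e
    simp only [sWd] at e
    simp [e, Nat.beq_refl] at h6
  · rw [Nat.beq_eq] at h6
    have e : keyB (sWd i) = keyB [] := by rw [k2, h6, root_key]
    right
    rcases key_eq H l1 (by simp) e with e' | e'
    · rcases hwi with rfl | rfl
      · exact absurd (by rw [sv, e']; simp [W5]) h1
      · rw [sv, e', show W5 [] = 1 by simp [W5], one_mul]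
    · rcases hwi with rfl | rfl
      · rw [sv, e', show W5 [] = 1 by simp [W5], one_mul]
      · exact absurd (by rw [sv, e', mul_assoc, sE_sq]; simp [W5]) h1
  · simp only [Bool.and_eq_true, ok5, List.all_eq_true, Nat.blt_eq, Nat.beq_eq] at h6
    obtain ⟨lu, he⟩ := h6
    rw [Nat.beq_eq] at c0 c7
    have hcls : eCls (sylE i) < 8 := Nat.mod_lt _ (by norm_num)
    set c := eCls (sylE i) with hcdef
    set u := eConj (sylE i) with hudef
    have lr : ∀ g ∈ repC.getD (c - 1) [], g < 5 := by
      have : ∀ c < 8, ∀ g ∈ repC.getD (c - 1) [], g < 5 := by decide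
      exact this c hcls
    have lc : ∀ g ∈ u ++ sWd i ++ ivW u, g < 5 := by
      intro g hg
      simp only [List.mem_append] at hg
      rcases hg with (hg | hg) | hg
      exacts [lu g hg, l1 g hg, ivW_lt lu g hg]
    have hkey := key_eq H lc lr he
    rw [W5_append, W5_append, W5_ivW lu] at hkey
    have hcu := W5_comm lu
    -- the conjugate is the representative, possibly times the second involution
    have hq : W5 u * w * (W5 u)⁻¹ = W5 (repC.getD (c - 1) []) ∨
        W5 u * w * (W5 u)⁻¹ = W5 (repC.getD (c - 1) []) * sE := by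
      rcases hwi with rfl | rfl
      · exact hkey
      · have e : W5 u * (sv i * sE) * (W5 u)⁻¹ = W5 u * sv i * (W5 u)⁻¹ * sE := by
          calc W5 u * (sv i * sE) * (W5 u)⁻¹ = W5 u * sv i * (sE * (W5 u)⁻¹) := by group
            _ = W5 u * sv i * ((W5 u)⁻¹ * sE) := by rw [hcu.inv_left.eq]
            _ = W5 u * sv i * (W5 u)⁻¹ * sE := by group
        rw [e]
        rcases hkey with k | k
        · exact Or.inr (congrArg (· * sE) k)
        · exact Or.inl ((congrArg (· * sE) k).trans (by rw [mul_assoc, sE_sq, mul_one]))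
    have toEl : ∀ j < 1080, W5 u * w * (W5 u)⁻¹ = el j → ∃ i < 1080, el i = w := by
      intro j hj e
      obtain ⟨q1, q2⟩ := evB_el H (ivW_lt lu) hj
      refine ⟨_, q1, ?_⟩
      rw [← q2, W5_ivW lu, ← e]
      group
    have toB : ∀ t, W5 u * w * (W5 u)⁻¹ = t → IsConj t sE → IsConj w sE := fun t e ht =>
      (isConj_iff.2 ⟨W5 u, e⟩).trans ht
    have sqv : ∀ v : List ℕ, sameM (flatW v ++ flatW v) sWord = true → (∀ g ∈ v, g < 5) →
        (W5 u * w * (W5 u)⁻¹ = W5 v ∨ W5 u * w * (W5 u)⁻¹ = W5 v * sE) → False := by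
      intro v hv lv hor
      have e := hW_eq hv
      rw [hW_append, hW_flatW] at e
      change W5 v * W5 v = sE at e
      have one : W5 u * w * (W5 u)⁻¹ * (W5 u * w * (W5 u)⁻¹) = 1 := by
        calc W5 u * w * (W5 u)⁻¹ * (W5 u * w * (W5 u)⁻¹) = W5 u * (w * w) * (W5 u)⁻¹ := by group
          _ = 1 := by rw [h2]; group
      rcases hor with k | k
      · rw [k, e] at one; exact sE_ne one
      · rw [k] at one
        refine sE_ne ?_
        calc sE = W5 v * W5 v * (sE * sE) := by rw [sE_sq, e, mul_one]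
          _ = W5 v * (W5 v * sE) * sE := by group
          _ = W5 v * (sE * W5 v) * sE := by rw [(W5_comm lv).eq]
          _ = W5 v * sE * (W5 v * sE) := by group
          _ = 1 := one
    have split : ∀ v, W5 v * sE = hW (flatW v ++ sWord) := fun v => by rw [hW_append, hW_flatW]; rfl
    interval_cases c
    · exact absurd rfl c0
    · left
      rcases hq with e | e
      · exact toEl 58 (by norm_num) (e.trans el_cube.symm)
      · exact toEl 0 (by norm_num) (e.trans el_zero'.symm)
    · rcases hq with e | e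
      · exact Or.inl (toEl 120 (by norm_num) (e.trans el_first.symm))
      · right
        refine toB _ e ?_
        rw [split]
        exact b_conj (by decide) witTwoS_ok rfl
    · exact (sqv _ sq_two lr hq).elim
    · right
      rcases hq with e | e
      · refine toB _ e ?_
        rw [← hW_flatW]
        exact b_conj (by decide) witThree_ok rfl
      · refine toB _ e ?_
        rw [split]
        exact b_conj (by decide) witThreeS_ok rfl
    · right
      have four : IsConj (W5 (repC.getD 4 [])) sE := by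
        rw [← hW_flatW]
        exact b_conj (by decide) witFour_ok rfl
      rcases hq with e | e
      · exact toB _ e four
      · refine toB _ e ?_
        rw [split]
        refine (b_conj (by decide) witFourS_ok rfl).trans ?_
        rw [hW_flatW]
        exact four
    · exact (sqv _ sq_five lr hq).elim
    · exact absurd rfl c7

end

end CfsgLib.HNRec.Cz
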