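import Cfsg.Agent.Lib.HNRec.Cz.Wit
import Cfsg.Agent.Lib.HNRec.Cz.ActData
import Cfsg.Agent.Lib.HNRec.Cz.SylData

/-!
# Checking the table of a Sylow two-subgroup of the centraliser modulo the second involution

An element is known from the images of the three base points.  Each entry holds the images, a word, the
entries of the products with the four generators, a parent and, for an element of order two, a word
conjugating it to one of the representatives.
-/

set_option autoImplicit false

namespace CfsgLib.HNRec.Cz

/-- The image of a point under a letter, from the packed table. -/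
def actB (g i : ℕ) : ℕ := (actP g >>> (11 * i)) % 2048

/-- The image of a point under a word. -/
def evB (w : List ℕ) (x : ℕ) : ℕ := w.foldr actB x

/-- The packed images of three points. -/
def packK (x y z : ℕ) : ℕ := x + 2048 * y + 4194304 * z

/-- The images of the base under a word. -/
def keyB (w : List ℕ) : ℕ := packK (evB w 0) (evB w 122) (evB w 136)

/-- The images of packed points under a word. -/
def mapK (w : List ℕ) (k : ℕ) : ℕ :=
  packK (evB w (k % 2048)) (evB w (k / 2048 % 2048)) (evB w (k / 4194304))

/-- The entry. -/
def eKey (e : ℕ) : ℕ := e % 8589934592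
/-- A product with a generator. -/
def eIdx (e g : ℕ) : ℕ := (e >>> (33 + 13 * g)) % 8192
/-- The generator leading to the parent, plus one. -/
def ePg (e : ℕ) : ℕ := (e >>> 85) % 8
/-- The parent. -/
def ePar (e : ℕ) : ℕ := (e >>> 88) % 8192
/-- The class. -/
def eCls (e : ℕ) : ℕ := (e >>> 101) % 8
/-- The depth. -/
def eRank (e : ℕ) : ℕ := (e >>> 104) % 8192
/-- Three bit digits. -/
def digits : ℕ → ℕ → List ℕ
  | 0, _ => []
  | n + 1, c => c % 8 :: digits n (c / 8)
/-- A word from its code. -/
def decW (c : ℕ) : List ℕ := digits (c % 16) (c / 16)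
/-- The word. -/
def eWord (e : ℕ) : List ℕ := decW ((e >>> 117) % 562949953421312)
/-- The conjugating word. -/
def eConj (e : ℕ) : List ℕ := decW (e >>> 166)

/-- The reversed inverse word. -/
def ivW (w : List ℕ) : List ℕ := w.reverse.map iv

/-- The letters are in range. -/
def ok5 (w : List ℕ) : Bool := w.all fun g => Nat.blt g 5

/-- The class of an entry is right. -/
def chkCls (e : ℕ) : Bool :=
  if Nat.beq (eCls e) 0 then !(Nat.beq (keyB (eWord e ++ eWord e)) (packK 0 122 136))
  else if Nat.beq (eCls e) 7 then Nat.beq (eKey e) (packK 0 122 136)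
  else ok5 (eConj e) &&
    Nat.beq (keyB (eConj e ++ eWord e ++ ivW (eConj e))) (keyB (repC.getD (eCls e - 1) []))

/-- The parent of an entry is right. -/
def chkPar (i e : ℕ) : Bool :=
  if Nat.beq (ePg e) 0 then Nat.beq (eKey e) (packK 0 122 136)
  else Nat.blt (ePg e - 1) 4 && Nat.blt (eRank (sylE (ePar e))) (eRank e) &&
    Nat.beq (eIdx (sylE (ePar e)) (ePg e - 1)) i

/-- The products of an entry with the generators are right. -/
def chkIdx (e : ℕ) : Bool :=
  (List.range 4).all fun g =>
    Nat.beq (eKey (sylE (eIdx e g))) (mapK (sylGen.getD g []) (eKey e))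

/-- One entry. -/
def chkI (i : ℕ) : Bool :=
  ok5 (eWord (sylE i)) && Nat.beq (keyB (eWord (sylE i))) (eKey (sylE i)) &&
  (Nat.beq i 8191 || Nat.blt (eKey (sylE i)) (eKey (sylE (i + 1)))) &&
  chkIdx (sylE i) && chkPar i (sylE i) && chkCls (sylE i)

/-- A block of 512 entries. -/
def chkBlock (b : ℕ) : Bool := (List.range 512).all fun i => chkI (512 * b + i)

/-- The tree agrees with the table. -/
def chkAct : Bool := (List.range 5).all fun g => (List.range 1080).all fun i => Nat.beq (actB g i) (actN g i)

end CfsgLib.HNRec.Cz
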