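import Cfsg.Agent.Lib.HNRec.Cz.SylCheck

/-!
# The table is right (generated)
-/

set_option autoImplicit false
set_option maxRecDepth 100000
set_option maxHeartbeats 0

namespace CfsgLib.HNRec.Cz

theorem syl_ok8 : chkBlock 8 = true := by
  decide +kernel

theorem syl_ok9 : chkBlock 9 = true := by
  decide +kernel

theorem syl_ok10 : chkBlock 10 = true := by
  decide +kernel

theorem syl_ok11 : chkBlock 11 = true := by
  decide +kernel

theorem syl_ok12 : chkBlock 12 = true := by
  decide +kernel

theorem syl_ok13 : chkBlock 13 = true := by
  decide +kernel

theorem syl_ok14 : chkBlock 14 = true := by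
  decide +kernel

theorem syl_ok15 : chkBlock 15 = true := by
  decide +kernel

end CfsgLib.HNRec.Cz
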