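import Cfsg.Agent.Lib.HNRec.Cz.SylOkA
import Cfsg.Agent.Lib.HNRec.Cz.SylOkB

/-!
# The table is right (generated)
-/

set_option autoImplicit false
set_option maxRecDepth 100000
set_option maxHeartbeats 0

namespace CfsgLib.HNRec.Cz

theorem act_ok : chkAct = true := by
  decide +kernel

theorem root_ok : Nat.beq (eKey (sylE 192)) (packK 0 122 136) = true := by
  decide +kernel

/-- The paths to the points use the five letters. -/
theorem rep_ok : ((List.range 1080).all fun i => ok5 (repW i)) = true := by
  decide +kernel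

theorem rep_lt {i : ℕ} (hi : i < 1080) : ∀ g ∈ repW i, g < 5 := by
  have h := List.all_eq_true.1 rep_ok i (List.mem_range.2 hi)
  simpa [ok5, Nat.blt_eq] using h

theorem syl_ok {i : ℕ} (hi : i < 8192) : chkI i = true := by
  have h : ∀ b < 16, chkBlock b = true := by
    intro b hb
    interval_cases b
    exacts [syl_ok0, syl_ok1, syl_ok2, syl_ok3, syl_ok4, syl_ok5, syl_ok6, syl_ok7, syl_ok8, syl_ok9, syl_ok10, syl_ok11, syl_ok12, syl_ok13, syl_ok14, syl_ok15]
  have := List.all_eq_true.1 (h (i / 512) (by omega)) (i % 512) (List.mem_range.2 (by omega))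
  rwa [Nat.div_add_mod] at this

end CfsgLib.HNRec.Cz
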