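import Cfsg.Agent.Lib.HNRec.Cz.SylCheck

/-!
# The table is right (generated)
-/

set_option autoImplicit false
set_option maxRecDepth 100000
set_option maxHeartbeats 0

namespace CfsgLib.HNRec.Cz

theorem syl_ok0 : chkBlock 0 = true := by
  decide +kernel

theorem syl_ok1 : chkBlock 1 = true := by
  decide +kernel

theorem syl_ok2 : chkBlock 2 = true := by
  decide +kernel

theorem syl_ok3 : chkBlock 3 = true := by
  decide +kernel

theorem syl_ok4 : chkBlock 4 = true := by
  decide +kernel

theorem syl_ok5 : chkBlock 5 = true := by
  decide +kernel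

theorem syl_ok6 : chkBlock 6 = true := by
  decide +kernel

theorem syl_ok7 : chkBlock 7 = true := by
  decide +kernel

end CfsgLib.HNRec.Cz
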