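import Cfsg.Agent.Lib.HNRec.Cz.Mat

/-!
# Identities between a few representatives in the representation of degree 133 (generated)
-/

set_option autoImplicit false
set_option maxRecDepth 100000
set_option maxHeartbeats 0

namespace CfsgLib.HNRec.Cz

open CfsgLib.HNxyz ModEleven

/-- The inverse of a word in the eight letters. -/
def invH (w : List ℕ) : List ℕ := w.reverse.map fun g => if g % 2 = 0 then g + 1 else g - 1

/-- The representatives of the six classes of involutions modulo the second involution, in the five letters. -/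
def repC : List (List ℕ) := [[0, 0, 0], [4], [2, 1, 2, 1, 2, 1], [4, 1, 4, 1, 4, 1, 4, 1], [2, 1, 1, 3, 1], [4, 1, 2, 4, 1, 4, 1, 2, 4, 1]]

/-- A word in the five letters as a word in the eight. -/
def flatW (w : List ℕ) : List ℕ := w.flatMap fun g => letW.getD g []

/-- The first element of the second orbit is conjugate to the involution of the presentation. -/
def witTwo : List ℕ :=
  [7, 0, 3, 4, 2, 0, 6, 0, 0, 7]

theorem witTwo_ok : sameM (witTwo ++ flatW (repC.getD 1 []) ++ invH witTwo) [0, 0] = true := by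
  decide +kernel

/-- Its product with the second involution is conjugate to the second involution. -/
def witTwoS : List ℕ :=
  [7, 0, 3, 4, 2, 0, 2, 2, 2, 0, 0, 6, 2, 2, 2, 0, 0, 7, 0, 3, 4, 2, 0, 2, 2, 2, 0, 0, 6, 2, 2, 2, 0,
   0, 7]

theorem witTwoS_ok : sameM (witTwoS ++ (flatW (repC.getD 1 []) ++ sWord) ++ invH witTwoS) sWord = true := by
  decide +kernel

/-- A class representative. -/
def witThree : List ℕ :=
  [0, 3, 0, 3, 4, 2, 0, 3, 0, 3, 4, 2, 0, 3, 0, 3, 4, 2, 0, 3, 0, 3, 4, 2, 0, 3, 2, 1, 2, 2, 2, 0, 0,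
   0, 3, 0, 3, 4, 2, 0, 3, 0, 3, 4, 2, 0, 3, 0, 3, 4, 2, 0, 3, 0, 3, 4, 2, 0, 3, 2, 1, 2, 2, 2, 0, 0,
   0, 3]

theorem witThree_ok : sameM (witThree ++ flatW (repC.getD 3 []) ++ invH witThree) sWord = true := by
  decide +kernel

/-- A class representative. -/
def witThreeS : List ℕ :=
  [0, 0, 3, 4, 2, 0, 3, 0, 3, 4, 2, 0, 3, 0, 3, 4, 2, 0, 3, 0, 3, 4, 2, 0, 3, 2, 2, 2, 0, 0, 1, 2, 2,
   2, 0, 0, 0]

theorem witThreeS_ok : sameM (witThreeS ++ (flatW (repC.getD 3 []) ++ sWord) ++ invH witThreeS) sWord = true := by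
  decide +kernel

/-- A class representative. -/
def witFour : List ℕ :=
  [6, 1, 4, 7, 2, 2, 2, 4, 6, 6, 2, 2, 2, 4, 3, 3, 5, 3, 3, 3, 7, 7, 5, 3, 3, 3, 6, 5, 3, 0, 7, 2, 2,
   2, 0, 0, 6, 1, 4, 7, 2, 2, 2, 4, 6, 6, 2, 2, 2, 4, 3, 3, 5, 3, 3, 3, 7, 7, 5, 3, 3, 3, 6, 5, 3, 0,
   7, 2, 2, 2, 0, 0, 6, 1]

theorem witFour_ok : sameM (witFour ++ flatW (repC.getD 4 []) ++ invH witFour) sWord = true := by
  decide +kernel

/-- A class representative. -/
def witFourS : List ℕ :=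
  [7, 5, 5, 5, 4, 7, 2, 2, 2, 4, 6, 6, 2, 2, 2, 4, 3, 3, 5, 3, 3, 3, 7, 7, 5, 3, 3, 3, 6, 5, 3, 2, 2,
   2, 0, 0, 4, 4, 4, 6, 4, 7, 2, 2, 2, 4, 6, 6, 2, 2, 2, 4, 3, 3, 5, 3, 3, 3, 7, 7, 5, 3, 3, 3, 6, 5,
   3, 7, 5, 5, 5]

theorem witFourS_ok : sameM (witFourS ++ (flatW (repC.getD 4 []) ++ sWord) ++ invH witFourS) (flatW (repC.getD 4 [])) = true := by
  decide +kernel

theorem cube_eq : sameM (flatW (repC.getD 0 [])) (flatW (repW 58).reverse ++ [0, 0] ++ invH (flatW (repW 58).reverse)) = true := by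
  decide +kernel

theorem sq_two : sameM (flatW (repC.getD 2 []) ++ flatW (repC.getD 2 [])) sWord = true := by
  decide +kernel

theorem sq_five : sameM (flatW (repC.getD 5 []) ++ flatW (repC.getD 5 [])) sWord = true := by
  decide +kernel

theorem s_cent : ((List.range 5).all fun g => sameM (letW.getD g [] ++ sWord) (sWord ++ letW.getD g [])) = true := by
  decide +kernel

theorem s_sq : sameM (sWord ++ sWord) [] = true := by
  decide +kernel

end CfsgLib.HNRec.Cz
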